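import Groth.Agent.CAlgH.KoszulRegular
import Groth.Prelude.Def_LCI2
import Mathlib.RingTheory.Localization.Away.Basic
import Mathlib.RingTheory.RingHom.Flat
import Mathlib.RingTheory.Flat.Localization

/-!
# Koszul regularity of an ideal at a prime
-/

universe u

set_option autoImplicit false
set_option backward.isDefEq.respectTransparency false

namespace Groth.Agent.FlatMorKoszul

open Groth.Agent.CAlgH.KoszulRegular

variable {R S : Type u} [CommRing R] [CommRing S]

/-- Change along a flat ring map. -/
theorem kreg_map {φ : R →+* S} (hφ : φ.Flat) {n : ℕ} {f : Fin n → R} (h : KReg f) : KReg fun i => φ (f i) :=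
  letI := φ.toAlgebra
  haveI : Module.Flat R S := hφ
  h.map

/-- `I` is generated near `P` by a Koszul regular family of elements of `I`. -/
def KAt (I : Ideal R) (P : Ideal R) : Prop :=
  ∃ h : R, h ∉ P ∧ ∃ (n : ℕ) (f : Fin n → R), (∀ i, f i ∈ I) ∧
    KReg (fun i => algebraMap R (Localization.Away h) (f i)) ∧
    I.map (algebraMap R (Localization.Away h)) =
      Ideal.span (Set.range fun i => algebraMap R (Localization.Away h) (f i))

theorem isKoszulRegularIdeal_iff (I : Ideal R) :
    LCI.IsKoszulRegularIdeal I ↔ ∀ P : PrimeSpectrum R, I ≤ P.asIdeal → KAt I P.asIdeal := by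
  constructor
  · intro hI P hP
    obtain ⟨g, hg, l, hl, hspan⟩ := hI P hP
    let L := Localization.Away g
    have hmem : ∀ i, ∃ a : I, ∃ u : L, IsUnit u ∧ l.get i * u = algebraMap R L a := fun i => by
      obtain ⟨⟨a, m⟩, hm⟩ := (IsLocalization.mem_map_algebraMap_iff (Submonoid.powers g) L).1
        (show l.get i ∈ I.map (algebraMap R L) from hspan ▸ Ideal.subset_span (List.get_mem l i))
      exact ⟨a, algebraMap R L m, IsLocalization.map_units L m, hm⟩
    choose a u hu hau using hmem
    have hs : Ideal.span (Set.range fun i => algebraMap R L (a i : R)) = Ideal.span (Set.range l.get) := by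
      refine le_antisymm (Ideal.span_le.2 ?_) (Ideal.span_le.2 ?_)
      · rintro _ ⟨i, rfl⟩
        show algebraMap R L (a i : R) ∈ Ideal.span (Set.range l.get)
        rw [← hau]
        exact Ideal.mul_mem_right _ _ (Ideal.subset_span ⟨i, rfl⟩)
      · rintro _ ⟨i, rfl⟩
        refine (Ideal.mul_unit_mem_iff_mem _ (hu i)).1 ?_
        rw [hau]
        exact Ideal.subset_span ⟨i, rfl⟩
    refine ⟨g, hg, _, fun i => (a i : R), fun i => (a i).2, kreg_of_span_eq (g := l.get) ?_ hs, ?_⟩
    · rw [← isKoszulRegularSeq_iff, List.ofFn_get]; exact hl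
    · rw [hs, hspan, Set.range_list_get]
  · intro hI P hP
    obtain ⟨h, hh, n, f, -, hf, hspan⟩ := hI P hP
    exact ⟨h, hh, List.ofFn fun i => algebraMap R (Localization.Away h) (f i),
      (isKoszulRegularSeq_iff _).2 hf, hspan.trans (congrArg Ideal.span (Set.ext fun x => by simp))⟩

/-- Change of localization. -/
theorem kreg_of_isUnit {h : R} (M : Submonoid R) (L : Type u) [CommRing L] [Algebra R L]
    [IsLocalization M L] (hu : IsUnit (algebraMap R L h)) {n : ℕ} {f : Fin n → R}
    (hf : KReg fun i => algebraMap R (Localization.Away h) (f i)) : KReg fun i => algebraMap R L (f i) := by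
  let ψ : Localization.Away h →+* L := IsLocalization.Away.lift h hu
  letI := ψ.toAlgebra
  have : IsScalarTower R (Localization.Away h) L :=
    .of_algebraMap_eq fun r => (IsLocalization.Away.lift_eq h hu r).symm
  have : Module.Flat R L := IsLocalization.flat L M
  have : Module.Flat (Localization.Away h) L :=
    (Module.flat_iff_of_isLocalization (Localization.Away h) (Submonoid.powers h) L).2 inferInstance
  have key := hf.map (S := L)
  simp only [← IsScalarTower.algebraMap_apply] at key
  exact key

/-- Change of localization. -/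
theorem map_eq_span_of_isUnit {h : R} (L : Type u) [CommRing L] [Algebra R L]
    (hu : IsUnit (algebraMap R L h)) {I : Ideal R} {n : ℕ} {f : Fin n → R}
    (hf : I.map (algebraMap R (Localization.Away h)) =
      Ideal.span (Set.range fun i => algebraMap R (Localization.Away h) (f i))) :
    I.map (algebraMap R L) = Ideal.span (Set.range fun i => algebraMap R L (f i)) := by
  let ψ : Localization.Away h →+* L := IsLocalization.Away.lift h hu
  have hψ : ψ.comp (algebraMap R _) = algebraMap R L :=
    RingHom.ext fun r => IsLocalization.Away.lift_eq h hu r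
  rw [← hψ, ← Ideal.map_map, hf, Ideal.map_span, ← Set.range_comp]
  rfl

theorem KAt.map {I : Ideal R} {φ : R →+* S} (hφ : φ.Flat) {Q : Ideal S} (h : KAt I (Q.comap φ)) :
    KAt (I.map φ) Q := by
  obtain ⟨g, hg, n, f, hfI, hf, hspan⟩ := h
  letI := φ.toAlgebra
  let L := Localization.Away (φ g)
  have : Module.Flat R S := hφ
  have : Module.Flat S L := IsLocalization.flat L (Submonoid.powers (φ g))
  have : Module.Flat R L := Module.Flat.trans R S L
  have hu : IsUnit (algebraMap R L g) := IsLocalization.Away.algebraMap_isUnit (φ g)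
  let ψ : Localization.Away g →+* L := IsLocalization.Away.lift g hu
  letI := ψ.toAlgebra
  have : IsScalarTower R (Localization.Away g) L :=
    .of_algebraMap_eq fun r => (IsLocalization.Away.lift_eq g hu r).symm
  have : Module.Flat (Localization.Away g) L :=
    (Module.flat_iff_of_isLocalization (Localization.Away g) (Submonoid.powers g) L).2 inferInstance
  refine ⟨φ g, hg, n, fun i => φ (f i), fun i => Ideal.mem_map_of_mem _ (hfI i), ?_, ?_⟩
  · have key := hf.map (S := L)
    simp only [← IsScalarTower.algebraMap_apply] at key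
    exact key
  · rw [Ideal.map_map]
    exact map_eq_span_of_isUnit L hu hspan

theorem isKoszulRegularIdeal_map {I : Ideal R} {φ : R →+* S} (hφ : φ.Flat)
    (h : LCI.IsKoszulRegularIdeal I) : LCI.IsKoszulRegularIdeal (I.map φ) := by
  rw [isKoszulRegularIdeal_iff] at h ⊢
  exact fun Q hQ => KAt.map hφ (h ⟨Q.asIdeal.comap φ, inferInstance⟩ (Ideal.map_le_iff_le_comap.1 hQ))

end Groth.Agent.FlatMorKoszul
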