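import Groth.Agent.FlatMorKoszul.Poly
import Mathlib.RingTheory.MvPolynomial.Localization
import Mathlib.RingTheory.Finiteness.FiniteTypeLocal
import Mathlib.Algebra.MvPolynomial.Equiv

/-!
# Local complete intersection ring maps: presentations, locality, composition
-/

universe u

set_option autoImplicit false
set_option backward.isDefEq.respectTransparency false

namespace Groth.Agent.FlatMorKoszul

open Groth.Agent.CAlgH.KoszulRegular MvPolynomial

variable {R S : Type u} [CommRing R] [CommRing S]

theorem isKoszulRegularIdeal_comap_equiv (e : R ≃+* S) {J : Ideal S} (h : LCI.IsKoszulRegularIdeal J) :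
    LCI.IsKoszulRegularIdeal (J.comap e.toRingHom) := by
  have hm := isKoszulRegularIdeal_map (φ := e.symm.toRingHom) (RingHom.Flat.of_bijective e.symm.bijective) h
  have he : J.map e.symm.toRingHom = J.comap e.toRingHom := Ideal.map_symm e
  rwa [he] at hm

/-- Translation of the variables. -/
noncomputable def shift {k : ℕ} (h : Fin k → R) : MvPolynomial (Fin k) R ≃+* MvPolynomial (Fin k) R :=
  RingEquiv.ofRingHom (eval₂Hom C fun j => X j + C (h j)) (eval₂Hom C fun j => X j - C (h j))
    (ringHom_ext (fun a => by simp) fun j => by simp) (ringHom_ext (fun a => by simp) fun j => by simp)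

theorem shift_C {k : ℕ} (h : Fin k → R) (a : R) : shift h (C a) = C a := eval₂Hom_C _ _ a

theorem shift_X {k : ℕ} (h : Fin k → R) (j : Fin k) : shift h (X j) = X j + C (h j) := eval₂Hom_X' _ _ j

/-- Exchanging two groups of variables. -/
noncomputable def swapHom (n m : ℕ) (R : Type u) [CommRing R] :
    MvPolynomial (Fin n) (MvPolynomial (Fin m) R) →+* MvPolynomial (Fin m) (MvPolynomial (Fin n) R) :=
  eval₂Hom (MvPolynomial.map C) fun i => C (X i)

/-- Exchanging two groups of variables. -/
noncomputable def swapEquiv (n m : ℕ) (R : Type u) [CommRing R] :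
    MvPolynomial (Fin n) (MvPolynomial (Fin m) R) ≃+* MvPolynomial (Fin m) (MvPolynomial (Fin n) R) :=
  RingEquiv.ofRingHom (swapHom n m R) (swapHom m n R)
    (ringHom_ext (fun p => by
        induction p using MvPolynomial.induction_on with
        | C a => simp [swapHom]
        | add p q hp hq => simp_all [map_add]
        | mul_X p i hp => simp_all [swapHom, map_mul]) fun j => by simp [swapHom])
    (ringHom_ext (fun p => by
        induction p using MvPolynomial.induction_on with
        | C a => simp [swapHom]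
        | add p q hp hq => simp_all [map_add]
        | mul_X p i hp => simp_all [swapHom, map_mul]) fun j => by simp [swapHom])

theorem other_presentation {A B : Type u} [CommRing A] [CommRing B] [Algebra A B] {n m : ℕ}
    (α : MvPolynomial (Fin n) A →ₐ[A] B) (hα : Function.Surjective α)
    (β : MvPolynomial (Fin m) A →ₐ[A] B) (hβ : Function.Surjective β)
    (h : LCI.IsKoszulRegularIdeal (RingHom.ker α.toRingHom)) :
    LCI.IsKoszulRegularIdeal (RingHom.ker β.toRingHom) := by
  choose a ha using fun j => hα (β (X j))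
  choose b hb using fun i => hβ (α (X i))
  have h1 := isKoszulRegularIdeal_comap (φ := (constantCoeff :
    MvPolynomial (Fin m) (MvPolynomial (Fin n) A) →+* MvPolynomial (Fin n) A)) constantCoeff_surjective
    isKoszulRegularIdeal_ker_constantCoeff h
  let e : MvPolynomial (Fin n) (MvPolynomial (Fin m) A) ≃+* MvPolynomial (Fin m) (MvPolynomial (Fin n) A) :=
    ((shift b).symm.trans (swapEquiv n m A)).trans (shift a)
  have h2 := isKoszulRegularIdeal_comap_equiv e h1
  refine isKoszulRegularIdeal_of_comap_constantCoeff (k := n) ?_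
  suffices hcomp : β.toRingHom.comp constantCoeff = (α.toRingHom.comp constantCoeff).comp e.toRingHom by
    rw [RingHom.comap_ker, hcomp, ← RingHom.comap_ker, ← RingHom.comap_ker]
    exact h2
  have hC : ∀ p, shift a (MvPolynomial.map C p) = eval₂ (C.comp C) (fun j => X j + C (a j)) p := fun p => by
    induction p using MvPolynomial.induction_on with
    | C c => rw [map_C, shift_C, eval₂_C]; rfl
    | add p q hp hq => rw [map_add, map_add, hp, hq, eval₂_add]
    | mul_X p j hp => rw [map_mul, map_mul, hp, map_X, shift_X, eval₂_mul, eval₂_X]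
  have hev : ∀ p, α.toRingHom (constantCoeff (shift a (MvPolynomial.map C p))) = β.toRingHom p := fun p => by
    rw [hC]
    induction p using MvPolynomial.induction_on with
    | C c => rw [eval₂_C]; simpa using (α.commutes c).trans (β.commutes c).symm
    | add p q hp hq => simp only [eval₂_add, map_add, hp, hq]
    | mul_X p j hp =>
      simp only [eval₂_mul, map_mul, hp, eval₂_X, map_add, constantCoeff_X, constantCoeff_C, zero_add]
      exact congrArg _ (ha j)
  refine ringHom_ext (fun p => ?_) fun i => ?_
  · have hp : e (C p) = shift a (MvPolynomial.map C p) := by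
      simp only [e, RingEquiv.trans_apply]
      rw [(shift b).symm_apply_eq.2 (shift_C b p).symm]
      exact congrArg _ (eval₂Hom_C _ _ p)
    simp only [RingHom.comp_apply, constantCoeff_C, RingEquiv.toRingHom_eq_coe, RingEquiv.coe_toRingHom, hp, hev]
  · have hX : (shift b).symm (X i) = X i - C (b i) :=
      eval₂Hom_X' _ _ i
    simp only [RingHom.comp_apply, constantCoeff_X, map_zero, RingEquiv.toRingHom_eq_coe, RingEquiv.coe_toRingHom,
      e, RingEquiv.trans_apply, hX, map_sub]
    rw [show swapEquiv n m A (X i) = C (X i) from eval₂Hom_X' _ _ i,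
      show swapEquiv n m A (C (b i)) = MvPolynomial.map C (b i) from eval₂Hom_C _ _ _, shift_C, constantCoeff_C,
      hev]
    exact (sub_eq_zero.2 (hb i).symm).symm

/-- Change along a flat map inverting `h`. -/
theorem kreg_of_flat_isUnit {L : Type u} [CommRing L] {φ : R →+* L} (hφ : φ.Flat) {h : R} (hu : IsUnit (φ h))
    {n : ℕ} {f : Fin n → R} (hf : KReg fun i => algebraMap R (Localization.Away h) (f i)) :
    KReg fun i => φ (f i) := by
  let := φ.toAlgebra
  let ψ : Localization.Away h →+* L := IsLocalization.Away.lift h hu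
  let := ψ.toAlgebra
  have : IsScalarTower R (Localization.Away h) L :=
    .of_algebraMap_eq fun r => (IsLocalization.Away.lift_eq h hu r).symm
  have : Module.Flat R L := hφ
  have : Module.Flat (Localization.Away h) L :=
    (Module.flat_iff_of_isLocalization (Localization.Away h) (Submonoid.powers h) L).2 inferInstance
  have key := hf.map (S := L)
  simp only [← IsScalarTower.algebraMap_apply] at key
  exact key

/-- Transfer of `KAt` from a basic localization. -/
theorem KAt.of_away {g : R} {I : Ideal R} {P : Ideal (Localization.Away g)} [P.IsPrime]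
    (h : KAt (I.map (algebraMap R (Localization.Away g))) P) :
    KAt I (P.comap (algebraMap R (Localization.Away g))) := by
  let Rg := Localization.Away g
  obtain ⟨h', hh', n, f, hfI, hf, hspan⟩ := h
  obtain ⟨⟨a, ma⟩, hma⟩ := IsLocalization.surj (Submonoid.powers g) h'
  have hnum : ∀ i, ∃ x : I, ∃ u : Rg, IsUnit u ∧ f i * u = algebraMap R Rg x := fun i => by
    obtain ⟨⟨x, m⟩, hm⟩ := (IsLocalization.mem_map_algebraMap_iff (Submonoid.powers g) Rg).1 (hfI i)
    exact ⟨x, algebraMap R Rg m, IsLocalization.map_units Rg m, hm⟩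
  choose x u hu hxu using hnum
  have hgP : algebraMap R Rg g ∉ P := fun hc =>
    Ideal.IsPrime.ne_top ‹_› (Ideal.eq_top_of_isUnit_mem _ hc (IsLocalization.Away.algebraMap_isUnit g))
  have haP : algebraMap R Rg a ∉ P := fun hc => hh' (by
    rw [← hma] at hc
    exact (Ideal.IsPrime.mem_or_mem ‹_› hc).resolve_right fun h0 => Ideal.IsPrime.ne_top ‹_›
      (Ideal.eq_top_of_isUnit_mem _ h0 (IsLocalization.map_units Rg ma)))
  let c := g * a
  let L := Localization.Away c
  have hug : IsUnit (algebraMap R L g) :=
    isUnit_of_dvd_unit (map_dvd _ (dvd_mul_right g a)) (IsLocalization.Away.algebraMap_isUnit c)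
  let ψ : Rg →+* L := IsLocalization.Away.lift g hug
  letI := ψ.toAlgebra
  have : IsScalarTower R Rg L := .of_algebraMap_eq fun r => (IsLocalization.Away.lift_eq g hug r).symm
  have : Module.Flat R L := IsLocalization.flat L (Submonoid.powers c)
  have : Module.Flat Rg L := (Module.flat_iff_of_isLocalization Rg (Submonoid.powers g) L).2 inferInstance
  have huh : IsUnit (algebraMap Rg L h') := by
    have h1 : IsUnit (algebraMap Rg L (h' * algebraMap R Rg ma)) := by
      rw [hma, ← IsScalarTower.algebraMap_apply]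
      exact isUnit_of_dvd_unit (map_dvd _ (dvd_mul_left a g)) (IsLocalization.Away.algebraMap_isUnit c)
    rw [map_mul] at h1
    exact isUnit_of_mul_isUnit_left h1
  have hspanL : Ideal.span (Set.range fun i => algebraMap R L (x i : R)) =
      Ideal.span (Set.range fun i => algebraMap Rg L (f i)) := by
    have hxL : ∀ i, algebraMap R L (x i : R) = algebraMap Rg L (f i) * algebraMap Rg L (u i) := fun i => by
      rw [← map_mul, hxu, ← IsScalarTower.algebraMap_apply]
    refine le_antisymm (Ideal.span_le.2 ?_) (Ideal.span_le.2 ?_)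
    · rintro _ ⟨i, rfl⟩
      show algebraMap R L (x i : R) ∈ Ideal.span (Set.range fun i => algebraMap Rg L (f i))
      rw [hxL]
      exact Ideal.mul_mem_right _ _ (Ideal.subset_span ⟨i, rfl⟩)
    · rintro _ ⟨i, rfl⟩
      refine (Ideal.mul_unit_mem_iff_mem _ ((hu i).map (algebraMap Rg L))).1 ?_
      rw [← hxL]
      exact Ideal.subset_span ⟨i, rfl⟩
  refine ⟨c, fun hc => ?_, n, fun i => (x i : R), fun i => (x i).2, kreg_of_span_eq ?_ hspanL, ?_⟩
  · rcases Ideal.IsPrime.mem_or_mem ‹_› (show algebraMap R Rg g * algebraMap R Rg a ∈ P by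
      rw [← map_mul]; exact hc) with h0 | h0
    · exact hgP h0
    · exact haP h0
  · exact kreg_of_flat_isUnit (RingHom.flat_algebraMap_iff.2 inferInstance) huh hf
  · rw [hspanL, show algebraMap R L = (algebraMap Rg L).comp (algebraMap R Rg) from IsScalarTower.algebraMap_eq R Rg L,
      ← Ideal.map_map]
    exact map_eq_span_of_isUnit L huh hspan

variable {A B C : Type u} [CommRing A] [CommRing B] [CommRing C]

theorem isLCI_of_equiv [Algebra A B] [Algebra A C] (e : B ≃ₐ[A] C) (h : LCI.IsLCI A B) : LCI.IsLCI A C := by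
  obtain ⟨h1, n, α, hα, hI⟩ := h
  refine ⟨h1.equiv e, n, e.toAlgHom.comp α, e.surjective.comp hα, ?_⟩
  convert hI using 1
  ext x
  exact ⟨fun hx => e.injective (hx.trans (map_zero e).symm), fun hx => (congrArg e hx).trans (map_zero e)⟩

/-- Presentation in two groups of variables. -/
theorem isKoszulRegularIdeal_ker_two [Algebra A B] (h : LCI.IsLCI A B) {k n : ℕ}
    (γ : MvPolynomial (Fin k) (MvPolynomial (Fin n) A) →ₐ[A] B) (hγ : Function.Surjective γ) :
    LCI.IsKoszulRegularIdeal (RingHom.ker γ.toRingHom) := by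
  obtain ⟨-, m, α, hα, hI⟩ := h
  let e : MvPolynomial (Fin k) (MvPolynomial (Fin n) A) ≃ₐ[A] MvPolynomial (Fin (k + n)) A :=
    (sumAlgEquiv A (Fin k) (Fin n)).symm.trans (renameEquiv A finSumFinEquiv)
  have h1 := other_presentation α hα (γ.comp e.symm.toAlgHom) (hγ.comp e.symm.surjective) hI
  have h2 := isKoszulRegularIdeal_comap_equiv e.toRingEquiv h1
  convert h2 using 1
  ext x
  show γ x = 0 ↔ γ (e.symm (e x)) = 0
  rw [e.symm_apply_apply]

theorem isLCI_of_presentation_two [Algebra A B] {k n : ℕ}
    (γ : MvPolynomial (Fin k) (MvPolynomial (Fin n) A) →ₐ[A] B) (hγ : Function.Surjective γ)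
    (hI : LCI.IsKoszulRegularIdeal (RingHom.ker γ.toRingHom)) : LCI.IsLCI A B := by
  let e : MvPolynomial (Fin k) (MvPolynomial (Fin n) A) ≃ₐ[A] MvPolynomial (Fin (k + n)) A :=
    (sumAlgEquiv A (Fin k) (Fin n)).symm.trans (renameEquiv A finSumFinEquiv)
  refine ⟨Algebra.FiniteType.of_surjective (γ.comp e.symm.toAlgHom) (hγ.comp e.symm.surjective),
    k + n, γ.comp e.symm.toAlgHom, hγ.comp e.symm.surjective, ?_⟩
  exact isKoszulRegularIdeal_comap_equiv e.symm.toRingEquiv hI

/-- Composition. -/
theorem isLCI_trans [Algebra A B] [Algebra B C] [Algebra A C] [IsScalarTower A B C]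
    (hAB : LCI.IsLCI A B) (hBC : LCI.IsLCI B C) : LCI.IsLCI A C := by
  obtain ⟨-, n, α, hα, hI⟩ := hAB
  obtain ⟨-, m, β, hβ, hJ⟩ := hBC
  have hφ : Function.Surjective (MvPolynomial.map (σ := Fin m) α.toRingHom) := MvPolynomial.map_surjective _ hα
  let γ : MvPolynomial (Fin m) (MvPolynomial (Fin n) A) →ₐ[A] C :=
    { toRingHom := β.toRingHom.comp (MvPolynomial.map α.toRingHom)
      commutes' := fun a => by
        show β (MvPolynomial.map α.toRingHom (algebraMap A _ a)) = algebraMap A C a
        rw [IsScalarTower.algebraMap_apply A (MvPolynomial (Fin n) A), MvPolynomial.algebraMap_eq, map_C,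
          IsScalarTower.algebraMap_apply A B C, show α.toRingHom (algebraMap A _ a) = algebraMap A B a from
          α.commutes a]
        exact β.commutes _ }
  refine isLCI_of_presentation_two γ (hβ.comp hφ) ?_
  show LCI.IsKoszulRegularIdeal (RingHom.ker (β.toRingHom.comp (MvPolynomial.map α.toRingHom)))
  rw [← RingHom.comap_ker]
  refine isKoszulRegularIdeal_comap hφ ?_ hJ
  rw [MvPolynomial.ker_map]
  exact isKoszulRegularIdeal_map (RingHom.flat_algebraMap_iff.2 inferInstance) hI

/-- A presentation is Koszul regular where some basic open of the target is lci. -/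
theorem kAt_ker_of_isLCI_away [Algebra A B] {n : ℕ} (α : MvPolynomial (Fin n) A →ₐ[A] B)
    (hα : Function.Surjective α) (g' : MvPolynomial (Fin n) A)
    (h : LCI.IsLCI A (Localization.Away (α g'))) (P : Ideal (MvPolynomial (Fin n) A)) [P.IsPrime]
    (hP : RingHom.ker α.toRingHom ≤ P) (hgP : g' ∉ P) : KAt (RingHom.ker α.toRingHom) P := by
  let Ag := Localization.Away g'
  let Bg := Localization.Away (α g')
  let αg : Ag →+* Bg := IsLocalization.Away.map Ag Bg α.toRingHom g'
  have hαg : ∀ x, αg (algebraMap _ Ag x) = algebraMap B Bg (α x) := fun x => IsLocalization.map_eq _ x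
  let v : Ag := IsLocalization.Away.invSelf g'
  let w : Bg := IsLocalization.Away.invSelf (α g')
  let γ : MvPolynomial (Fin 1) (MvPolynomial (Fin n) A) →ₐ[A] Bg :=
    { toRingHom := eval₂Hom ((algebraMap B Bg).comp α.toRingHom) fun _ => w
      commutes' := fun a => by
        show eval₂Hom ((algebraMap B Bg).comp α.toRingHom) _ (algebraMap A _ a) = _
        rw [IsScalarTower.algebraMap_apply A (MvPolynomial (Fin n) A), MvPolynomial.algebraMap_eq, eval₂Hom_C,
          IsScalarTower.algebraMap_apply A B Bg, ← α.commutes a]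
        rfl }
  have hγ : Function.Surjective γ := fun y => by
    obtain ⟨k, b, hb⟩ := IsLocalization.Away.surj (α g') y
    obtain ⟨p, rfl⟩ := hα b
    refine ⟨MvPolynomial.C p * X 0 ^ k, ?_⟩
    show eval₂Hom ((algebraMap B Bg).comp α.toRingHom) (fun _ => w) (MvPolynomial.C p * X 0 ^ k) = y
    rw [map_mul, map_pow, eval₂Hom_C, eval₂Hom_X']
    show algebraMap B Bg (α p) * w ^ k = y
    rw [← hb, mul_assoc, ← mul_pow, IsLocalization.Away.mul_invSelf, one_pow, mul_one]
  have hγK := isKoszulRegularIdeal_ker_two h γ hγ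
  -- pass to the localized polynomial ring
  let χ : MvPolynomial (Fin 1) (MvPolynomial (Fin n) A) →+* MvPolynomial (Fin 1) Ag :=
    MvPolynomial.map (algebraMap _ Ag)
  let δ : MvPolynomial (Fin 1) Ag →+* Bg := eval₂Hom αg fun _ => w
  have hδχ : δ.comp χ = γ.toRingHom := ringHom_ext (fun p => by simp [δ, χ, γ, hαg]) fun i => by simp [δ, χ, γ]
  letI := MvPolynomial.algebraMvPolynomial (R := MvPolynomial (Fin n) A) (S := Ag) (σ := Fin 1)
  have hflat : χ.Flat :=
    RingHom.flat_algebraMap_iff.2 (IsLocalization.flat (MvPolynomial (Fin 1) Ag)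
      ((Submonoid.powers g').map (MvPolynomial.C (σ := Fin 1))))
  have hmap : (RingHom.ker γ.toRingHom).map χ = RingHom.ker δ := by
    rw [← hδχ, ← RingHom.comap_ker]
    exact IsLocalization.map_under ((Submonoid.powers g').map (MvPolynomial.C (σ := Fin 1))) _ _
  have h1 : LCI.IsKoszulRegularIdeal (RingHom.ker δ) := hmap ▸ isKoszulRegularIdeal_map hflat hγK
  -- translate the variable to the origin
  have hv : αg v = w := by
    refine (IsUnit.mul_right_inj (IsLocalization.Away.algebraMap_isUnit (S := Bg) (α g'))).1 ?_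
    rw [IsLocalization.Away.mul_invSelf, ← hαg, ← map_mul, IsLocalization.Away.mul_invSelf, map_one]
  have h2 : LCI.IsKoszulRegularIdeal ((RingHom.ker αg).comap
      (constantCoeff : MvPolynomial (Fin 1) Ag →+* Ag)) := by
    have := isKoszulRegularIdeal_comap_equiv (shift fun _ => -v) h1
    have hcomp : δ.comp (shift fun _ => -v).toRingHom = αg.comp constantCoeff := by
      refine ringHom_ext (fun a => ?_) fun i => ?_
      · simp [δ, shift_C]
      · simp [δ, shift_X, hv]
    rwa [RingHom.comap_ker, hcomp, ← RingHom.comap_ker] at this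
  have h3 := isKoszulRegularIdeal_of_comap_constantCoeff h2
  have hpow : (Submonoid.powers g').map α.toRingHom = Submonoid.powers (α g') := Submonoid.map_powers _ _
  have hkerg : RingHom.ker αg = (RingHom.ker α.toRingHom).map (algebraMap _ Ag) :=
    IsLocalization.ker_map Bg α.toRingHom hpow
  rw [hkerg, isKoszulRegularIdeal_iff] at h3
  have hdisj : Disjoint (Submonoid.powers g' : Set (MvPolynomial (Fin n) A)) P :=
    (Ideal.disjoint_powers_iff_notMem_of_isPrime g').2 hgP
  have hPg := IsLocalization.isPrime_of_isPrime_disjoint (Submonoid.powers g') Ag P (inferInstance : P.IsPrime) hdisj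
  have h4 := KAt.of_away (h3 ⟨_, hPg⟩ (Ideal.map_mono hP))
  have h5 := IsLocalization.under_map_of_isPrime_disjoint (Submonoid.powers g') Ag (inferInstance : P.IsPrime) hdisj
  exact (congrArg (KAt (RingHom.ker α.toRingHom)) h5).mp h4

/-- Being lci is local on the target. -/
theorem isLCI_of_span [Algebra A B] (s : Set B) (hs : Ideal.span s = ⊤)
    (h : ∀ g ∈ s, LCI.IsLCI A (Localization.Away g)) : LCI.IsLCI A B := by
  have hft : Algebra.FiniteType A B := Algebra.FiniteType.of_span_eq_top_target s hs fun g hg => (h g hg).1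
  obtain ⟨n, α, hα⟩ := (Algebra.FiniteType.iff_quotient_mvPolynomial'').1 hft
  refine ⟨hft, n, α, hα, (isKoszulRegularIdeal_iff _).2 fun P hP => ?_⟩
  let Q : Ideal B := P.asIdeal.map α.toRingHom
  have hQ : Q.IsPrime := Ideal.map_isPrime_of_surjective hα hP
  obtain ⟨g, hg, hgQ⟩ : ∃ g ∈ s, g ∉ Q := by
    by_contra! hc
    exact hQ.ne_top (eq_top_iff.2 (hs ▸ Ideal.span_le.2 hc))
  obtain ⟨g', rfl⟩ := hα g
  exact kAt_ker_of_isLCI_away α hα g' (h _ hg) P.asIdeal hP fun hc => hgQ (Ideal.mem_map_of_mem _ hc)

/-- Polynomial algebras are lci. -/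
theorem isLCI_id [Algebra A B] (e : MvPolynomial (Fin 0) A ≃ₐ[A] B) : LCI.IsLCI A B := by
  refine ⟨Algebra.FiniteType.of_surjective e.toAlgHom e.surjective, 0, e.toAlgHom, e.surjective, ?_⟩
  rw [isKoszulRegularIdeal_iff]
  refine fun P _ => ⟨1, P.asIdeal.ne_top_iff_one.1 P.2.ne_top, 0, Fin.elim0, fun i => i.elim0, ?_, ?_⟩
  · exact Groth.Agent.CAlgH.KoszulH1.kreg_of_isWeaklyRegular (by
      rw [List.ofFn_zero]; exact RingTheory.Sequence.IsWeaklyRegular.nil _ _)
  · rw [show RingHom.ker e.toAlgHom.toRingHom = ⊥ from (RingHom.injective_iff_ker_eq_bot _).1 e.injective,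
      Ideal.map_bot, Set.range_eq_empty, Ideal.span_empty]

end Groth.Agent.FlatMorKoszul
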