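import Groth.Agent.FlatMorKoszul.Presentation
import Groth.Agent.CAlgH.KoszulDescentScheme
import Mathlib.RingTheory.TensorProduct.MvPolynomial
import Mathlib.RingTheory.Finiteness.Descent
import Mathlib.LinearAlgebra.TensorProduct.Pi
import Mathlib.RingTheory.Flat.FaithfullyFlat.Algebra

/-!
# Faithfully flat descent of local complete intersection ring maps
-/

universe u

set_option autoImplicit false
set_option backward.isDefEq.respectTransparency false

open TensorProduct

namespace Groth.Agent.FlatMorKoszul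

variable {R S : Type u} [CommRing R] [CommRing S] [Algebra R S]
  {ι : Type u} [Fintype ι] (R' : ι → Type u) [∀ i, CommRing (R' i)] [∀ i, Algebra R (R' i)]

theorem faithfullyFlat_pi [∀ i, Module.Flat R (R' i)]
    (hsurj : ∀ p : PrimeSpectrum R, ∃ i, ∃ q : PrimeSpectrum (R' i),
      PrimeSpectrum.comap (algebraMap R (R' i)) q = p) :
    Module.FaithfullyFlat R (∀ i, R' i) := by
  classical
  have : Module.Flat R (∀ i, R' i) :=
    Module.Flat.of_linearEquiv (DFinsupp.linearEquivFunOnFintype (R := R) (M := R')).symm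
  refine Module.FaithfullyFlat.of_comap_surjective fun p => ?_
  obtain ⟨i, q, rfl⟩ := hsurj p
  exact ⟨PrimeSpectrum.comap (Pi.evalRingHom R' i) q, rfl⟩

variable (S' : ι → Type u) [∀ i, CommRing (S' i)] [∀ i, Algebra (R' i) (S' i)] [∀ i, Algebra S (S' i)]
  [∀ i, Algebra R (S' i)] [∀ i, IsScalarTower R (R' i) (S' i)] [∀ i, IsScalarTower R S (S' i)]
  [∀ i, Algebra.IsPushout R (R' i) S (S' i)]

theorem finiteType_of_faithfullyFlat [Module.FaithfullyFlat R (∀ i, R' i)]
    (h : ∀ i, Algebra.FiniteType (R' i) (S' i)) : Algebra.FiniteType R S := by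
  classical
  have hF : ∀ i, ∃ F : Finset S, ∀ f : MvPolynomial F R →ₐ[R] S, (∀ x : F, f (MvPolynomial.X x) = x) →
      ∀ G : Subalgebra R S, f.range ≤ G → Function.Surjective (G.val.toLinearMap.lTensor (R' i)) := by
    intro i
    let e := Algebra.IsPushout.equiv R (R' i) S (S' i)
    have hft : Algebra.FiniteType (R' i) (R' i ⊗[R] S) := (h i).equiv e.symm
    obtain ⟨s, hs⟩ := hft.out
    choose k t m hm using fun x : s => TensorProduct.exists_sum_tmul_eq x.1
    refine ⟨Finset.univ.biUnion fun x : s => Finset.univ.image (m x), fun f hf G hG => ?_⟩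
    suffices hs' : (⊤ : Subalgebra (R' i) (R' i ⊗[R] S)) ≤
        (Algebra.TensorProduct.map (AlgHom.id (R' i) (R' i)) G.val).range by
      intro y
      obtain ⟨z, hz⟩ := hs' (Algebra.mem_top (x := y))
      exact ⟨z, hz⟩
    rw [← hs, Algebra.adjoin_le_iff]
    intro x hx
    let x' : s := ⟨x, hx⟩
    have hmem : ∀ j, m x' j ∈ G := fun j => hG ⟨MvPolynomial.X ⟨m x' j,
      Finset.mem_biUnion.2 ⟨x', Finset.mem_univ _, Finset.mem_image_of_mem _ (Finset.mem_univ j)⟩⟩, hf _⟩
    refine ⟨∑ j, t x' j ⊗ₜ ⟨m x' j, hmem j⟩, ?_⟩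
    rw [map_sum]
    simp only [AlgHom.toRingHom_eq_coe, RingHom.coe_coe, Algebra.TensorProduct.map_tmul]
    exact (hm x').symm
  choose F hF using hF
  let Fall : Finset S := Finset.univ.biUnion F
  let G : Subalgebra R S := Algebra.adjoin R (Fall : Set S)
  have hsurj : Function.Surjective (G.val.toLinearMap.lTensor (∀ i, R' i)) := by
    rw [← LinearMap.range_eq_top, eq_top_iff, ← TensorProduct.span_tmul_eq_top, Submodule.span_le]
    rintro _ ⟨r, y, rfl⟩
    show r ⊗ₜ[R] y ∈ LinearMap.range (G.val.toLinearMap.lTensor (∀ i, R' i))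
    rw [← Finset.univ_sum_single r, TensorProduct.sum_tmul]
    refine Submodule.sum_mem _ fun i _ => ?_
    obtain ⟨z, hz⟩ := hF i (MvPolynomial.aeval fun x : F i => (x : S)) (fun x => MvPolynomial.aeval_X _ x) G
      (by
        rw [← Algebra.adjoin_range_eq_range_aeval]
        exact Algebra.adjoin_mono (by
          rintro _ ⟨x, rfl⟩
          exact Finset.mem_biUnion.2 ⟨i, Finset.mem_univ _, x.2⟩)) (r i ⊗ₜ y)
    refine ⟨(LinearMap.single R R' i).rTensor G z, ?_⟩
    rw [← LinearMap.comp_apply, LinearMap.lTensor_comp_rTensor, ← LinearMap.rTensor_comp_lTensor,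
      LinearMap.comp_apply, hz]
    rfl
  have hG : G = ⊤ := eq_top_iff.2 fun y _ => by
    obtain ⟨z, hz⟩ := (Module.FaithfullyFlat.lTensor_surjective_iff_surjective R (∀ i, R' i) _).1 hsurj y
    exact hz ▸ z.2
  exact ⟨⟨Fall, hG⟩⟩

/-- Descent of lci along a faithfully flat family. -/
theorem isLCI_of_faithfullyFlat [∀ i, Module.Flat R (R' i)]
    (hsurj : ∀ p : PrimeSpectrum R, ∃ i, ∃ q : PrimeSpectrum (R' i),
      PrimeSpectrum.comap (algebraMap R (R' i)) q = p)
    (h : ∀ i, LCI.IsLCI (R' i) (S' i)) : LCI.IsLCI R S := by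
  classical
  have := faithfullyFlat_pi R' hsurj
  have hft : Algebra.FiniteType R S := finiteType_of_faithfullyFlat R' S' fun i => (h i).1
  obtain ⟨n, α, hα⟩ := (Algebra.FiniteType.iff_quotient_mvPolynomial'').1 hft
  refine ⟨hft, n, α, hα, ?_⟩
  let P := MvPolynomial (Fin n) R
  let B : ι → Type u := fun i => MvPolynomial (Fin n) (R' i)
  let _algB : ∀ i, Algebra P (B i) := fun i => MvPolynomial.algebraMvPolynomial
  have : ∀ i, Algebra.IsPushout R P (R' i) (B i) := fun i =>
    let _ : Algebra (MvPolynomial (Fin n) R) (MvPolynomial (Fin n) (R' i)) := MvPolynomial.algebraMvPolynomial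
    inferInstanceAs (Algebra.IsPushout R (MvPolynomial (Fin n) R) (R' i) (MvPolynomial (Fin n) (R' i)))
  have : Module.FaithfullyFlat P (∀ i, B i) :=
    Module.FaithfullyFlat.of_linearEquiv P (P ⊗[R] (∀ i, R' i))
      ((TensorProduct.piRight R P P R').trans
        (LinearEquiv.piCongrRight fun i => (Algebra.IsPushout.equiv R P (R' i) (B i)).toLinearEquiv)).symm
  refine Groth.Agent.CAlgH.KoszulDescent.isKoszulRegularIdeal_of_faithfullyFlat (B := ∀ i, B i) _
    (Groth.Agent.CAlgH.KoszulDescentScheme.isKoszulRegularIdeal_pi B _ fun i => ?_)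
  obtain ⟨-, m, γ, hγ, hI⟩ := h i
  let a : MvPolynomial (Fin n) (R' i) →ₐ[R' i] S' i :=
    MvPolynomial.aeval fun j => algebraMap S (S' i) (α (MvPolynomial.X j))
  have haP : a.toRingHom.comp (algebraMap P (B i)) = (algebraMap S (S' i)).comp α.toRingHom := by
    refine MvPolynomial.ringHom_ext (fun r => ?_) fun j => ?_
    · show a (MvPolynomial.map (algebraMap R (R' i)) (MvPolynomial.C r)) = algebraMap S (S' i) (α (MvPolynomial.C r))
      rw [MvPolynomial.map_C, MvPolynomial.aeval_C, ← IsScalarTower.algebraMap_apply,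
        show α (MvPolynomial.C r) = algebraMap R S r from α.commutes r, ← IsScalarTower.algebraMap_apply]
    · show a (MvPolynomial.map (algebraMap R (R' i)) (MvPolynomial.X j)) = algebraMap S (S' i) (α (MvPolynomial.X j))
      rw [MvPolynomial.map_X, MvPolynomial.aeval_X]
  have ha : Function.Surjective a := fun y => by
    obtain ⟨z, rfl⟩ := (Algebra.IsPushout.equiv R (R' i) S (S' i)).surjective y
    induction z using TensorProduct.induction_on with
    | zero => exact ⟨0, by rw [map_zero, map_zero]⟩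
    | tmul r s =>
      obtain ⟨q, rfl⟩ := hα s
      refine ⟨MvPolynomial.C r * algebraMap P (B i) q, ?_⟩
      rw [map_mul, MvPolynomial.aeval_C, Algebra.IsPushout.equiv_tmul]
      exact congrArg (_ * ·) (RingHom.congr_fun haP q)
    | add x y hx hy =>
      obtain ⟨u, hu⟩ := hx
      obtain ⟨v, hv⟩ := hy
      exact ⟨u + v, by rw [map_add, map_add, hu, hv]⟩
  have key : RingHom.ker a.toRingHom = (RingHom.ker α.toRingHom).map (algebraMap P (B i)) := by
    refine le_antisymm (fun x hx => ?_) (Ideal.map_le_iff_le_comap.2 fun x hx => ?_)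
    · let K := (RingHom.ker α.toRingHom).map (algebraMap P (B i))
      let f : S →ₐ[R] B i ⧸ K :=
        (Ideal.Quotient.liftₐ (RingHom.ker α.toRingHom)
          ((Ideal.Quotient.mkₐ R K).comp (IsScalarTower.toAlgHom R P (B i)))
          fun z hz => Ideal.Quotient.eq_zero_iff_mem.2 (Ideal.mem_map_of_mem _ hz)).comp
          (Ideal.quotientKerAlgEquivOfSurjective hα).symm.toAlgHom
      have hf : ∀ q, f (α q) = Ideal.Quotient.mk K (algebraMap P (B i) q) := fun q => by
        have h1 : (Ideal.quotientKerAlgEquivOfSurjective hα).symm (α q) = Ideal.Quotient.mk _ q := by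
          rw [AlgEquiv.symm_apply_eq]; rfl
        refine (congrArg (Ideal.Quotient.liftₐ (RingHom.ker α.toRingHom)
          ((Ideal.Quotient.mkₐ R K).comp (IsScalarTower.toAlgHom R P (B i))) fun z hz =>
            Ideal.Quotient.eq_zero_iff_mem.2 (Ideal.mem_map_of_mem _ hz)) h1).trans ?_
        rfl
      let g : R' i →ₐ[R] B i ⧸ K := (Ideal.Quotient.mkₐ R K).comp (IsScalarTower.toAlgHom R (R' i) (B i))
      have : Algebra.IsPushout R S (R' i) (S' i) := .symm inferInstance
      let ψ : S' i →ₐ[R] B i ⧸ K :=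
        Algebra.pushoutDesc (R := R) (S := S) (R' := R' i) (S' i) f g fun _ _ => mul_comm _ _
      have hψ : ψ.toRingHom.comp a.toRingHom = Ideal.Quotient.mk K := by
        refine MvPolynomial.ringHom_ext (fun r => ?_) fun j => ?_
        · show ψ (a (MvPolynomial.C r)) = _
          rw [MvPolynomial.aeval_C, Algebra.pushoutDesc_right]
          rfl
        · show ψ (a (MvPolynomial.X j)) = _
          rw [MvPolynomial.aeval_X, Algebra.pushoutDesc_left, hf]
          exact congrArg _ (MvPolynomial.map_X _ j)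
      rw [← Ideal.Quotient.eq_zero_iff_mem, ← hψ, RingHom.comp_apply, RingHom.mem_ker.1 hx, map_zero]
    · rw [Ideal.mem_comap, RingHom.mem_ker, ← RingHom.comp_apply, haP, RingHom.comp_apply, RingHom.mem_ker.1 hx,
        map_zero]
  exact key ▸ other_presentation γ hγ a ha hI

end Groth.Agent.FlatMorKoszul
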