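import Groth.Agent.FlatMorKoszul.Presentation

/-!
# Localizations and quotients as lci ring maps
-/

universe u

set_option autoImplicit false
set_option backward.isDefEq.respectTransparency false

namespace Groth.Agent.FlatMorKoszul

open Groth.Agent.CAlgH.KoszulRegular MvPolynomial

variable {A B C : Type u} [CommRing A] [CommRing B] [CommRing C]

theorem isKoszulRegularIdeal_bot : LCI.IsKoszulRegularIdeal (⊥ : Ideal A) := by
  rw [isKoszulRegularIdeal_iff]
  refine fun P _ => ⟨1, P.asIdeal.ne_top_iff_one.1 P.2.ne_top, 0, Fin.elim0, fun i => i.elim0, ?_, ?_⟩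
  · exact Groth.Agent.CAlgH.KoszulH1.kreg_of_isWeaklyRegular (by
      rw [List.ofFn_zero]; exact RingTheory.Sequence.IsWeaklyRegular.nil _ _)
  · rw [Ideal.map_bot, Set.range_eq_empty, Ideal.span_empty]

/-- A basic localization is lci. -/
theorem isLCI_away (a : A) : LCI.IsLCI A (Localization.Away a) := by
  let Aa := Localization.Away a
  let v : Aa := IsLocalization.Away.invSelf a
  let α : MvPolynomial (Fin 1) A →ₐ[A] Aa := aeval fun _ => v
  have hα : Function.Surjective α := fun y => by
    obtain ⟨k, b, hb⟩ := IsLocalization.Away.surj a y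
    refine ⟨MvPolynomial.C b * X 0 ^ k, ?_⟩
    rw [map_mul, map_pow, aeval_C, aeval_X]
    show algebraMap A Aa b * v ^ k = y
    rw [← hb, mul_assoc, ← mul_pow, IsLocalization.Away.mul_invSelf, one_pow, mul_one]
  refine ⟨Algebra.FiniteType.of_surjective α hα, 1, α, hα, (isKoszulRegularIdeal_iff _).2 fun P hP => ?_⟩
  let g : MvPolynomial (Fin 1) A := MvPolynomial.C a
  have hgP : g ∉ P.asIdeal := fun hc => by
    refine P.2.ne_top ((Ideal.eq_top_iff_one _).2 ?_)
    have h1 : g * X 0 - 1 ∈ P.asIdeal := hP (by
      rw [RingHom.mem_ker]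
      show α (MvPolynomial.C a * X 0 - 1) = 0
      rw [map_sub, map_one, map_mul, aeval_C, aeval_X]
      show algebraMap A Aa a * v - 1 = 0
      rw [IsLocalization.Away.mul_invSelf, sub_self])
    simpa using sub_mem (Ideal.mul_mem_right (X 0) _ hc) h1
  let δ : MvPolynomial (Fin 1) Aa →+* Aa := eval₂Hom (RingHom.id Aa) fun _ => v
  have hδ : LCI.IsKoszulRegularIdeal (RingHom.ker δ) := by
    have hcomp : δ.comp (shift fun _ => -v).toRingHom = constantCoeff := by
      refine ringHom_ext (fun b => ?_) fun i => ?_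
      · simp [δ, shift_C]
      · simp [δ, shift_X]
    have h1 : LCI.IsKoszulRegularIdeal ((RingHom.ker δ).comap (shift fun _ => -v).toRingHom) := by
      rw [RingHom.comap_ker, hcomp]
      exact isKoszulRegularIdeal_ker_constantCoeff
    have h2 := isKoszulRegularIdeal_comap_equiv (shift fun _ => -v).symm h1
    rw [Ideal.comap_comap] at h2
    convert h2 using 1
    ext x
    show δ x = 0 ↔ δ ((shift fun _ => -v) ((shift fun _ => -v).symm x)) = 0
    rw [RingEquiv.apply_symm_apply]
  letI := MvPolynomial.algebraMvPolynomial (R := A) (S := Aa) (σ := Fin 1)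
  let χ : MvPolynomial (Fin 1) A →+* MvPolynomial (Fin 1) Aa := algebraMap _ _
  have hδχ : δ.comp χ = α.toRingHom := ringHom_ext (fun p => by
      show δ (MvPolynomial.map (algebraMap A Aa) (MvPolynomial.C p)) = α (MvPolynomial.C p)
      rw [map_C, eval₂Hom_C, aeval_C]; rfl) fun i => by
      show δ (MvPolynomial.map (algebraMap A Aa) (X i)) = α (X i)
      rw [map_X, eval₂Hom_X', aeval_X]
  have hmap : (RingHom.ker α.toRingHom).map χ = RingHom.ker δ := by
    rw [← hδχ, ← RingHom.comap_ker]
    exact IsLocalization.map_under ((Submonoid.powers a).map (MvPolynomial.C (σ := Fin 1))) _ _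
  have hM : (Submonoid.powers a).map (MvPolynomial.C (σ := Fin 1)) = Submonoid.powers g := Submonoid.map_powers _ _
  have : IsLocalization (Submonoid.powers g) (MvPolynomial (Fin 1) Aa) := hM ▸ inferInstance
  let e := IsLocalization.algEquiv (Submonoid.powers g) (MvPolynomial (Fin 1) Aa) (Localization.Away g)
  have h3 : LCI.IsKoszulRegularIdeal ((RingHom.ker α.toRingHom).map (algebraMap _ (Localization.Away g))) := by
    have := isKoszulRegularIdeal_map (φ := e.toAlgHom.toRingHom) (RingHom.Flat.of_bijective e.bijective)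
      (hmap ▸ hδ)
    rw [Ideal.map_map] at this
    convert this using 2
    exact (e.toAlgHom.comp_algebraMap).symm
  rw [isKoszulRegularIdeal_iff] at h3
  have hdisj : Disjoint (Submonoid.powers g : Set (MvPolynomial (Fin 1) A)) P.asIdeal :=
    (Ideal.disjoint_powers_iff_notMem_of_isPrime g).2 hgP
  have hPg := IsLocalization.isPrime_of_isPrime_disjoint (Submonoid.powers g) (Localization.Away g) P.asIdeal P.2 hdisj
  have h4 := KAt.of_away (h3 ⟨_, hPg⟩ (Ideal.map_mono hP))
  have h5 := IsLocalization.under_map_of_isPrime_disjoint (Submonoid.powers g) (Localization.Away g) P.2 hdisj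
  exact (congrArg (KAt (RingHom.ker α.toRingHom)) h5).mp h4

/-- A quotient by a Koszul regular ideal is lci. -/
theorem isLCI_of_surjective [Algebra B C] (hsurj : Function.Surjective (algebraMap B C))
    (h : LCI.IsKoszulRegularIdeal (RingHom.ker (algebraMap B C))) : LCI.IsLCI B C := by
  let α : MvPolynomial (Fin 0) B →ₐ[B] C := aeval Fin.elim0
  have hα : Function.Surjective α := fun c => by
    obtain ⟨b, rfl⟩ := hsurj c
    exact ⟨MvPolynomial.C b, aeval_C _ b⟩
  refine ⟨Algebra.FiniteType.of_surjective α hα, 0, α, hα, ?_⟩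
  have h2 := isKoszulRegularIdeal_comap_equiv (isEmptyRingEquiv B (Fin 0)) h
  rw [RingHom.comap_ker] at h2
  convert h2 using 2
  refine ringHom_ext (fun b => ?_) fun i => i.elim0
  show α (MvPolynomial.C b) = algebraMap B C (isEmptyRingEquiv B (Fin 0) (MvPolynomial.C b))
  rw [aeval_C]
  congr 1
  show b = (MvPolynomial.C (σ := Fin 0) b).coeff 0
  rw [MvPolynomial.coeff_C, if_pos rfl]

/-- Passing to a localization of the base. -/
theorem isLCI_of_localization_base (M : Submonoid A) [Algebra A B] [IsLocalization M B] [Algebra A C] [Algebra B C]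
    [IsScalarTower A B C] (h : LCI.IsLCI A C) : LCI.IsLCI B C := by
  obtain ⟨-, n, α, hα, hI⟩ := h
  letI := MvPolynomial.algebraMvPolynomial (R := A) (S := B) (σ := Fin n)
  let α' : MvPolynomial (Fin n) B →ₐ[B] C := aeval fun i => α (X i)
  have hcomp : α'.toRingHom.comp (algebraMap (MvPolynomial (Fin n) A) (MvPolynomial (Fin n) B)) = α.toRingHom := by
    refine ringHom_ext (fun a => ?_) fun i => ?_
    · show α' (MvPolynomial.map (algebraMap A B) (MvPolynomial.C a)) = α (MvPolynomial.C a)
      rw [map_C, aeval_C, ← IsScalarTower.algebraMap_apply]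
      exact (α.commutes a).symm
    · show α' (MvPolynomial.map (algebraMap A B) (X i)) = α (X i)
      rw [map_X, aeval_X]
  have hα' : Function.Surjective α' := fun c => by
    obtain ⟨p, rfl⟩ := hα c
    exact ⟨algebraMap _ _ p, RingHom.congr_fun hcomp p⟩
  refine ⟨Algebra.FiniteType.of_surjective α' hα', n, α', hα', ?_⟩
  have hmap : (RingHom.ker α.toRingHom).map (algebraMap _ (MvPolynomial (Fin n) B)) = RingHom.ker α'.toRingHom := by
    rw [← hcomp, ← RingHom.comap_ker]
    exact IsLocalization.map_under (M.map (MvPolynomial.C (σ := Fin n))) _ _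
  rw [← hmap]
  exact isKoszulRegularIdeal_map (RingHom.flat_algebraMap_iff.2
    (IsLocalization.flat (MvPolynomial (Fin n) B) (M.map (MvPolynomial.C (σ := Fin n))))) hI

end Groth.Agent.FlatMorKoszul
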