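import Groth.Agent.FlatMorKoszul.Localization
import Mathlib.AlgebraicGeometry.AffineScheme
import Mathlib.AlgebraicGeometry.Morphisms.Basic

/-!
# The Koszul locus of a morphism, read on a presentation
-/

universe u

set_option autoImplicit false
set_option backward.isDefEq.respectTransparency false

open AlgebraicGeometry CategoryTheory

namespace Groth.Agent.FlatMorKoszul

theorem isKoszulRegularIdeal_span {A : Type u} [CommRing A] {n : ℕ} {f : Fin n → A}
    (hf : CAlgH.KoszulRegular.KReg f) : LCI.IsKoszulRegularIdeal (Ideal.span (Set.range f)) := by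
  rw [isKoszulRegularIdeal_iff]
  refine fun P _ => ⟨1, P.asIdeal.ne_top_iff_one.1 P.2.ne_top, n, f, fun i => Ideal.subset_span ⟨i, rfl⟩, ?_, ?_⟩
  · exact hf.map
  · rw [Ideal.map_span, ← Set.range_comp]; rfl

/-- A basic open of a presentation on which the kernel is Koszul regular is lci. -/
theorem isLCI_away_of_kreg {B S : Type u} [CommRing B] [CommRing S] [Algebra B S] {n : ℕ}
    (β : MvPolynomial (Fin n) B →ₐ[B] S) (hβ : Function.Surjective β) (h : MvPolynomial (Fin n) B) {m : ℕ}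
    (f : Fin m → MvPolynomial (Fin n) B)
    (hf : CAlgH.KoszulRegular.KReg fun i => algebraMap _ (Localization.Away h) (f i))
    (hspan : (RingHom.ker β.toRingHom).map (algebraMap _ (Localization.Away h)) =
      Ideal.span (Set.range fun i => algebraMap _ (Localization.Away h) (f i))) :
    LCI.IsLCI B (Localization.Away (β h)) := by
  let T := MvPolynomial (Fin n) B
  let Th := Localization.Away h
  let Sa := Localization.Away (β h)
  let φ : Th →+* Sa := IsLocalization.Away.map Th Sa β.toRingHom h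
  let _ : Algebra Th Sa := φ.toAlgebra
  have hφ : ∀ t, φ (algebraMap T Th t) = algebraMap S Sa (β t) := fun t => IsLocalization.map_eq _ t
  let _ : Algebra T Sa := ((algebraMap S Sa).comp β.toRingHom).toAlgebra
  have : IsScalarTower T Th Sa := .of_algebraMap_eq fun t => (hφ t).symm
  have : IsScalarTower B T Sa := .of_algebraMap_eq fun b => by
    show algebraMap B Sa b = algebraMap S Sa (β (algebraMap B T b))
    rw [β.commutes, ← IsScalarTower.algebraMap_apply]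
  have : IsScalarTower B Th Sa := .of_algebraMap_eq fun b => by
    rw [IsScalarTower.algebraMap_apply B T Sa, IsScalarTower.algebraMap_apply B T Th,
      ← IsScalarTower.algebraMap_apply T Th Sa]
  have hpoly : LCI.IsLCI B T := ⟨inferInstance, n, AlgHom.id B T, Function.surjective_id, by
    convert isKoszulRegularIdeal_bot (A := T) using 1
    exact (RingHom.injective_iff_ker_eq_bot _).1 Function.injective_id⟩
  have hM : (Submonoid.powers h).map β.toRingHom = Submonoid.powers (β h) := Submonoid.map_powers _ _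
  have : IsLocalization ((Submonoid.powers h).map β.toRingHom) Sa := by rw [hM]; infer_instance
  have hsurj : Function.Surjective (algebraMap Th Sa) :=
    IsLocalization.map_surjective_of_surjective (M := Submonoid.powers h) (S := Th) (Q := Sa) hβ
  have hker : RingHom.ker (algebraMap Th Sa) = Ideal.span (Set.range fun i => algebraMap T Th (f i)) :=
    (IsLocalization.ker_map Sa β.toRingHom hM).trans hspan
  have hlast : LCI.IsLCI Th Sa := isLCI_of_surjective hsurj (hker ▸ isKoszulRegularIdeal_span hf)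
  exact isLCI_trans (isLCI_trans hpoly (isLCI_away h)) hlast

variable {X Y : Scheme.{u}}

/-- `f` is Koszul at `x`. -/
def IsKoszulPt (f : X ⟶ Y) (x : X) : Prop :=
  ∃ (U : X.Opens) (V : Y.Opens) (_hU : IsAffineOpen U) (_hV : IsAffineOpen V) (hUV : U ≤ f ⁻¹ᵁ V), x ∈ U ∧
    letI := (f.appLE V U hUV).hom.toAlgebra
    LCI.IsLCI Γ(Y, V) Γ(X, U)

theorem notMem_primeIdealOf_iff {U : X.Opens} (hU : IsAffineOpen U) {x : X} (hx : x ∈ U) (a : Γ(X, U)) :
    a ∉ (hU.primeIdealOf ⟨x, hx⟩).asIdeal ↔ x ∈ X.basicOpen a := by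
  rw [show x ∈ X.basicOpen a ↔ hU.fromSpec (hU.primeIdealOf ⟨x, hx⟩) ∈ X.basicOpen a by
    rw [hU.fromSpec_primeIdealOf]]
  show _ ↔ hU.primeIdealOf ⟨x, hx⟩ ∈ hU.fromSpec ⁻¹ᵁ X.basicOpen a
  rw [hU.fromSpec_preimage_basicOpen]
  rfl

theorem comap_primeIdealOf (f : X ⟶ Y) {U : X.Opens} (hU : IsAffineOpen U) {V : Y.Opens} (hV : IsAffineOpen V)
    (e : U ≤ f ⁻¹ᵁ V) {x : X} (hx : x ∈ U) :
    (hU.primeIdealOf ⟨x, hx⟩).asIdeal.comap (f.appLE V U e).hom = (hV.primeIdealOf ⟨f x, e hx⟩).asIdeal := by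
  have h : Spec.map (f.appLE V U e) (hU.primeIdealOf ⟨x, hx⟩) = hV.primeIdealOf ⟨f x, e hx⟩ := by
    apply hV.fromSpec.isOpenEmbedding.injective
    rw [← Scheme.Hom.comp_apply, IsAffineOpen.SpecMap_appLE_fromSpec f hV hU, Scheme.Hom.comp_apply,
      IsAffineOpen.fromSpec_primeIdealOf, IsAffineOpen.fromSpec_primeIdealOf]
  exact congrArg PrimeSpectrum.asIdeal h

/-- Restricting the target affine of an lci chart to a basic open. -/
theorem isLCI_basicOpen_source (f : X ⟶ Y) {U₁ U₂ : X.Opens} (hU₁ : IsAffineOpen U₁) {V₁ : Y.Opens}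
    (e₁ : U₁ ≤ f ⁻¹ᵁ V₁) (a : Γ(X, U₁)) (he : U₂ = X.basicOpen a) (e₂ : U₂ ≤ f ⁻¹ᵁ V₁)
    (h : letI := (f.appLE V₁ U₁ e₁).hom.toAlgebra; LCI.IsLCI Γ(Y, V₁) Γ(X, U₁)) :
    letI := (f.appLE V₁ U₂ e₂).hom.toAlgebra; LCI.IsLCI Γ(Y, V₁) Γ(X, U₂) := by
  subst he
  let _ := (f.appLE V₁ U₁ e₁).hom.toAlgebra
  let _ := (f.appLE V₁ (X.basicOpen a) e₂).hom.toAlgebra
  have := hU₁.isLocalization_basicOpen a
  have : IsScalarTower Γ(Y, V₁) Γ(X, U₁) Γ(X, X.basicOpen a) := by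
    refine .of_algebraMap_eq' ?_
    show (f.appLE V₁ (X.basicOpen a) e₂).hom =
      (X.presheaf.map (homOfLE (X.basicOpen_le a)).op).hom.comp (f.appLE V₁ U₁ e₁).hom
    rw [← CommRingCat.hom_comp, Scheme.Hom.appLE_map]
  exact isLCI_of_equiv ((IsLocalization.algEquiv (Submonoid.powers a) (Localization.Away a)
    Γ(X, X.basicOpen a)).restrictScalars Γ(Y, V₁)) (isLCI_trans h (isLCI_away a))

/-- Restricting the base of an lci chart to a basic open. -/
theorem isLCI_basicOpen_base (f : X ⟶ Y) {U : X.Opens} {V₁ V₂ : Y.Opens} (hV₁ : IsAffineOpen V₁)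
    (e₁ : U ≤ f ⁻¹ᵁ V₁) (b : Γ(Y, V₁)) (he : V₂ = Y.basicOpen b) (e₂ : U ≤ f ⁻¹ᵁ V₂)
    (h : letI := (f.appLE V₁ U e₁).hom.toAlgebra; LCI.IsLCI Γ(Y, V₁) Γ(X, U)) :
    letI := (f.appLE V₂ U e₂).hom.toAlgebra; LCI.IsLCI Γ(Y, V₂) Γ(X, U) := by
  subst he
  let _ := (f.appLE V₁ U e₁).hom.toAlgebra
  let _ := (f.appLE (Y.basicOpen b) U e₂).hom.toAlgebra
  have := hV₁.isLocalization_basicOpen b
  have : IsScalarTower Γ(Y, V₁) Γ(Y, Y.basicOpen b) Γ(X, U) := by
    refine .of_algebraMap_eq' ?_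
    show (f.appLE V₁ U e₁).hom =
      (f.appLE (Y.basicOpen b) U e₂).hom.comp (Y.presheaf.map (homOfLE (Y.basicOpen_le b)).op).hom
    rw [← CommRingCat.hom_comp, Scheme.Hom.map_appLE]
  exact isLCI_of_localization_base (Submonoid.powers b) h

/-- Enlarging the base of an lci chart from a basic open. -/
theorem isLCI_of_basicOpen_base (f : X ⟶ Y) {U : X.Opens} {V V₂ : Y.Opens} (hV : IsAffineOpen V)
    (e : U ≤ f ⁻¹ᵁ V) (b : Γ(Y, V)) (he : V₂ = Y.basicOpen b) (e₂ : U ≤ f ⁻¹ᵁ V₂)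
    (h : letI := (f.appLE V₂ U e₂).hom.toAlgebra; LCI.IsLCI Γ(Y, V₂) Γ(X, U)) :
    letI := (f.appLE V U e).hom.toAlgebra; LCI.IsLCI Γ(Y, V) Γ(X, U) := by
  subst he
  let _ := (f.appLE V U e).hom.toAlgebra
  let _ := (f.appLE (Y.basicOpen b) U e₂).hom.toAlgebra
  have := hV.isLocalization_basicOpen b
  have : IsScalarTower Γ(Y, V) Γ(Y, Y.basicOpen b) Γ(X, U) := by
    refine .of_algebraMap_eq' ?_
    show (f.appLE V U e).hom =
      (f.appLE (Y.basicOpen b) U e₂).hom.comp (Y.presheaf.map (homOfLE (Y.basicOpen_le b)).op).hom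
    rw [← CommRingCat.hom_comp, Scheme.Hom.map_appLE]
  exact isLCI_trans (isLCI_of_equiv (IsLocalization.algEquiv (Submonoid.powers b) (Localization.Away b)
    Γ(Y, Y.basicOpen b)) (isLCI_away b)) h

/-- The Koszul locus on a presentation. -/
theorem isKoszulPt_iff (f : X ⟶ Y) {U : X.Opens} {V : Y.Opens} (hU : IsAffineOpen U) (hV : IsAffineOpen V)
    (hUV : U ≤ f ⁻¹ᵁ V) {x : X} (hx : x ∈ U) [Algebra Γ(Y, V) Γ(X, U)]
    (halg : algebraMap Γ(Y, V) Γ(X, U) = (f.appLE V U hUV).hom) {n : ℕ}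
    (β : MvPolynomial (Fin n) Γ(Y, V) →ₐ[Γ(Y, V)] Γ(X, U)) (hβ : Function.Surjective β) :
    IsKoszulPt f x ↔ KAt (RingHom.ker β.toRingHom) ((hU.primeIdealOf ⟨x, hx⟩).asIdeal.comap β.toRingHom) := by
  have hmodel : ∀ a : Γ(X, U), (letI := (f.appLE V (X.basicOpen a) ((X.basicOpen_le a).trans hUV)).hom.toAlgebra
      LCI.IsLCI Γ(Y, V) Γ(X, X.basicOpen a)) ↔ LCI.IsLCI Γ(Y, V) (Localization.Away a) := by
    intro a
    let _ := (f.appLE V (X.basicOpen a) ((X.basicOpen_le a).trans hUV)).hom.toAlgebra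
    have := hU.isLocalization_basicOpen a
    have : IsScalarTower Γ(Y, V) Γ(X, U) Γ(X, X.basicOpen a) := by
      refine .of_algebraMap_eq' ?_
      rw [halg]
      show (f.appLE V (X.basicOpen a) _).hom =
        (X.presheaf.map (homOfLE (X.basicOpen_le a)).op).hom.comp (f.appLE V U hUV).hom
      rw [← CommRingCat.hom_comp, Scheme.Hom.appLE_map]
    let e := (IsLocalization.algEquiv (Submonoid.powers a) Γ(X, X.basicOpen a)
      (Localization.Away a)).restrictScalars Γ(Y, V)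
    exact ⟨isLCI_of_equiv e, isLCI_of_equiv e.symm⟩
  constructor
  · rintro ⟨U₁, V₁, hU₁, hV₁, hUV₁, hx₁, hlci⟩
    obtain ⟨b, b₁, hbb, hfb⟩ := exists_basicOpen_le_affine_inter hV hV₁ (f x) ⟨hUV hx, hUV₁ hx₁⟩
    obtain ⟨a₀, ha₀, hxa₀⟩ := hU.exists_basicOpen_le (V := U₁ ⊓ f ⁻¹ᵁ Y.basicOpen b) ⟨x, hx₁, hfb⟩ hx
    obtain ⟨a', a₁, haa, hxa⟩ := exists_basicOpen_le_affine_inter (hU.basicOpen a₀) hU₁ x ⟨hxa₀, hx₁⟩
    obtain ⟨a, ha⟩ := hU.basicOpen_basicOpen_is_basicOpen a₀ a'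
    have hle : X.basicOpen a ≤ f ⁻¹ᵁ Y.basicOpen b := by
      rw [ha]; exact (X.basicOpen_le a').trans (ha₀.trans inf_le_right)
    have heU : X.basicOpen a = X.basicOpen a₁ := ha.trans haa
    have h1 := isLCI_basicOpen_source f hU₁ hUV₁ a₁ heU (hle.trans (fun y hy => Y.basicOpen_le b₁ (hbb ▸ hy))) hlci
    have h2 := isLCI_basicOpen_base f hV₁ (hle.trans (fun y hy => Y.basicOpen_le b₁ (hbb ▸ hy))) b₁ hbb hle h1
    have h3 := isLCI_of_basicOpen_base f hV ((X.basicOpen_le a).trans hUV) b rfl hle h2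
    obtain ⟨g, rfl⟩ := hβ a
    refine kAt_ker_of_isLCI_away β hβ g ((hmodel _).1 h3) _ (Ideal.comap_mono bot_le) ?_
    exact (notMem_primeIdealOf_iff hU hx (β g)).2 (ha ▸ hxa)
  · rintro ⟨h, hh, m, g, -, hg, hspan⟩
    refine ⟨X.basicOpen (β h), V, hU.basicOpen _, hV, (X.basicOpen_le _).trans hUV,
      (notMem_primeIdealOf_iff hU hx (β h)).1 hh, (hmodel _).2 (isLCI_away_of_kreg β hβ h g hg hspan)⟩

end Groth.Agent.FlatMorKoszul
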