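import Groth.Agent.FlatMorKoszul.FibreBC
import Groth.Agent.FlatMorKoszul.Locus
import Mathlib.RingTheory.TensorProduct.MvPolynomial

/-!
# Base change of the Koszul locus
-/

universe u

set_option autoImplicit false
set_option backward.isDefEq.respectTransparency false

open AlgebraicGeometry CategoryTheory

namespace Groth.Agent.FlatMorKoszulBC

open Groth.Agent.FlatMorKoszul

theorem kAt_ker_iff {R R' B B' Sx Sx' : Type u} [CommRing R] [CommRing R'] [CommRing B] [CommRing B'] [CommRing Sx]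
    [CommRing Sx'] [Algebra R R'] [Algebra R B] [Algebra R B'] [Algebra R' B'] [Algebra B B'] [IsScalarTower R R' B']
    [IsScalarTower R B B'] [Algebra.IsPushout R R' B B'] [Algebra R Sx] [Algebra R Sx'] [Algebra R' Sx']
    [Algebra Sx Sx'] [IsScalarTower R R' Sx'] [IsScalarTower R Sx Sx'] [Algebra.IsPushout R R' Sx Sx']
    [Algebra B Sx] [Algebra B' Sx'] [IsScalarTower R B Sx] [IsScalarTower R' B' Sx']
    [Algebra.FinitePresentation R B] [Algebra.FinitePresentation R Sx] [Module.Flat R B] [Module.Flat R Sx]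
    (hcomm : (algebraMap Sx Sx').comp (algebraMap B Sx) = (algebraMap B' Sx').comp (algebraMap B B'))
    {n : ℕ} (β : MvPolynomial (Fin n) B →ₐ[B] Sx) (hβ : Function.Surjective β)
    (q' : Ideal Sx') [q'.IsPrime] :
    ∃ β' : MvPolynomial (Fin n) B' →ₐ[B'] Sx', Function.Surjective β' ∧
      (KAt (RingHom.ker β'.toRingHom) (q'.comap β'.toRingHom) ↔
        KAt (RingHom.ker β.toRingHom) ((q'.comap (algebraMap Sx Sx')).comap β.toRingHom)) := by
  let T := MvPolynomial (Fin n) B
  let T' := MvPolynomial (Fin n) B'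
  let _ : Algebra T T' := MvPolynomial.algebraMvPolynomial
  have : Algebra.IsPushout B T B' T' :=
    let _ : Algebra (MvPolynomial (Fin n) B) (MvPolynomial (Fin n) B') := MvPolynomial.algebraMvPolynomial
    inferInstanceAs (Algebra.IsPushout B (MvPolynomial (Fin n) B) B' (MvPolynomial (Fin n) B'))
  have : Algebra.IsPushout R B R' B' := .symm inferInstance
  have : IsScalarTower B T T' := .of_algebraMap_eq fun b => (MvPolynomial.map_C (algebraMap B B') b).symm
  have : IsScalarTower R T T' := .of_algebraMap_eq fun r => by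
    rw [IsScalarTower.algebraMap_apply R B T, ← IsScalarTower.algebraMap_apply B T T',
      IsScalarTower.algebraMap_apply B B' T', ← IsScalarTower.algebraMap_apply R B B']
    exact IsScalarTower.algebraMap_apply R B' T' r
  have hP : Algebra.IsPushout R T R' T' :=
    (Algebra.IsPushout.comp_iff R B R' B' (T := T) (T' := T')).2 ‹_›
  have : Algebra.IsPushout R R' T T' := hP.symm
  let β' : T' →ₐ[B'] Sx' := MvPolynomial.aeval fun i => algebraMap Sx Sx' (β (MvPolynomial.X i))
  have hβ' : ∀ t, β' (algebraMap T T' t) = algebraMap Sx Sx' (β t) := fun t => by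
    refine RingHom.congr_fun (f := β'.toRingHom.comp (algebraMap T T')) (g := (algebraMap Sx Sx').comp β.toRingHom)
      (MvPolynomial.ringHom_ext (fun b => ?_) fun i => ?_) t
    · show β' (MvPolynomial.map (algebraMap B B') (MvPolynomial.C b)) = algebraMap Sx Sx' (β (MvPolynomial.C b))
      rw [MvPolynomial.map_C, MvPolynomial.aeval_C, show β (MvPolynomial.C b) = algebraMap B Sx b from β.commutes b]
      exact (RingHom.congr_fun hcomm b).symm
    · show β' (MvPolynomial.map (algebraMap B B') (MvPolynomial.X i)) = algebraMap Sx Sx' (β (MvPolynomial.X i))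
      rw [MvPolynomial.map_X, MvPolynomial.aeval_X]
  obtain ⟨hsurj, hker⟩ := ker_baseChange (R := R) (R' := R') (T := T) (T' := T') (S := Sx) (S' := Sx')
    (β.restrictScalars R) hβ (β'.restrictScalars R') hβ'
  refine ⟨β', hsurj, ?_⟩
  have hker' : RingHom.ker β'.toRingHom = (RingHom.ker β.toRingHom).map (algebraMap T T') := hker
  have hprime : (q'.comap β'.toRingHom).comap (algebraMap T T') = (q'.comap (algebraMap Sx Sx')).comap β.toRingHom := by
    rw [Ideal.comap_comap, Ideal.comap_comap]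
    exact congrArg (Ideal.comap · q') (RingHom.ext hβ')
  have : Algebra.FinitePresentation R T := Algebra.FinitePresentation.trans R B T
  have : Module.Flat R T := Module.Flat.trans R B T
  have : Module.Flat R' T' :=
    Module.Flat.isBaseChange (R := R) (S := R') (M := T) T' (Algebra.IsPushout.out (R := R) (S := R') (R' := T) (S' := T'))
  have : Algebra.FinitePresentation B Sx :=
    Algebra.FinitePresentation.of_restrict_scalars_finitePresentation R B Sx
  have hJ : (RingHom.ker β.toRingHom).FG :=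
    Algebra.FinitePresentation.ker_fG_of_surjective β hβ
  have : Module.Flat R (T ⧸ RingHom.ker β.toRingHom) :=
    Module.Flat.of_linearEquiv
      (Ideal.quotientKerAlgEquivOfSurjective (f := β.restrictScalars R) hβ).toLinearEquiv
  have : Module.Flat R' Sx' :=
    Module.Flat.isBaseChange (R := R) (S := R') (M := Sx) Sx'
      (Algebra.IsPushout.out (R := R) (S := R') (R' := Sx) (S' := Sx'))
  have : Module.Flat R' (T' ⧸ (RingHom.ker β.toRingHom).map (algebraMap T T')) := by
    rw [← hker']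
    exact Module.Flat.of_linearEquiv
      (Ideal.quotientKerAlgEquivOfSurjective (f := β'.restrictScalars R') hsurj).toLinearEquiv
  constructor
  · intro hK
    rw [← hprime]
    exact KAt.of_baseChange (R := R) (R' := R') hJ (q'.comap β'.toRingHom)
      (hprime ▸ Ideal.comap_mono bot_le) ((congrArg (fun I => KAt I (q'.comap β'.toRingHom)) hker').mp hK)
  · intro hK
    rw [hker']
    refine KAt.baseChange (R := R) R' ?_
    rwa [hprime]

theorem isKoszulPt_iff_of_baseChange {X Y X' Y' : Scheme.{u}} {R R' : Type u} [CommRing R] [CommRing R'] [Algebra R R']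
    (f : X ⟶ Y) (f' : X' ⟶ Y') {U : X.Opens} {U' : X'.Opens} {V : Y.Opens} {V' : Y'.Opens}
    (hU : IsAffineOpen U) (hU' : IsAffineOpen U') (hV : IsAffineOpen V) (hV' : IsAffineOpen V')
    (e : U ≤ f ⁻¹ᵁ V) (e' : U' ≤ f' ⁻¹ᵁ V') {x : X} {x' : X'} (hx : x ∈ U) (hx' : x' ∈ U')
    [Algebra R Γ(Y, V)] [Algebra R Γ(Y', V')] [Algebra R' Γ(Y', V')] [Algebra Γ(Y, V) Γ(Y', V')]
    [IsScalarTower R R' Γ(Y', V')] [IsScalarTower R Γ(Y, V) Γ(Y', V')]
    [Algebra.IsPushout R R' Γ(Y, V) Γ(Y', V')] [Algebra R Γ(X, U)] [Algebra R Γ(X', U')] [Algebra R' Γ(X', U')]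
    [Algebra Γ(X, U) Γ(X', U')] [IsScalarTower R R' Γ(X', U')] [IsScalarTower R Γ(X, U) Γ(X', U')]
    [Algebra.IsPushout R R' Γ(X, U) Γ(X', U')]
    [Algebra Γ(Y, V) Γ(X, U)] [Algebra Γ(Y', V') Γ(X', U')] [IsScalarTower R Γ(Y, V) Γ(X, U)]
    [IsScalarTower R' Γ(Y', V') Γ(X', U')]
    [Algebra.FinitePresentation R Γ(Y, V)] [Algebra.FinitePresentation R Γ(X, U)]
    [Module.Flat R Γ(Y, V)] [Module.Flat R Γ(X, U)]
    (halg : algebraMap Γ(Y, V) Γ(X, U) = (f.appLE V U e).hom)
    (halg' : algebraMap Γ(Y', V') Γ(X', U') = (f'.appLE V' U' e').hom)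
    (gXm : Γ(X, U) →+* Γ(X', U')) (hgXm : algebraMap Γ(X, U) Γ(X', U') = gXm)
    (hprime : (hU'.primeIdealOf ⟨x', hx'⟩).asIdeal.comap gXm = (hU.primeIdealOf ⟨x, hx⟩).asIdeal)
    (hcomm : gXm.comp (f.appLE V U e).hom = (f'.appLE V' U' e').hom.comp (algebraMap Γ(Y, V) Γ(Y', V')))
    (n : ℕ) (β : MvPolynomial (Fin n) Γ(Y, V) →ₐ[Γ(Y, V)] Γ(X, U)) (hβ : Function.Surjective β) :
    IsKoszulPt f' x' ↔ IsKoszulPt f x := by
  obtain ⟨β', hβ', hiff⟩ := kAt_ker_iff (R := R) (R' := R') (B := Γ(Y, V)) (B' := Γ(Y', V')) (Sx := Γ(X, U))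
    (Sx' := Γ(X', U')) (by rw [hgXm, halg, halg', hcomm]) β hβ (hU'.primeIdealOf ⟨x', hx'⟩).asIdeal
  rw [isKoszulPt_iff f' hU' hV' e' hx' halg' β' hβ', isKoszulPt_iff f hU hV e hx halg β hβ, hiff, hgXm, hprime]

end Groth.Agent.FlatMorKoszulBC
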