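import Groth.Agent.FlatMorKoszul.Basic
import Groth.Agent.CAlgH.KoszulH1
import Groth.Agent.CAlgH3.RegularCore
import Groth.Agent.Nrm16Lib.RegImm
import Mathlib.RingTheory.RegularLocalRing.Polynomial

/-!
# Finite type maps between regular rings are lci
-/

universe u

set_option autoImplicit false
set_option backward.isDefEq.respectTransparency false

open IsLocalRing RingTheory.Sequence

namespace Groth.Agent.FlatMorKoszul

open Groth.Agent.CAlgH.KoszulRegular

variable {R : Type u} [CommRing R]

/-- A family that is weakly regular at a prime is weakly regular up to a multiplier. -/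
theorem exists_colon_of_weaklyRegular [IsNoetherianRing R] (p : Ideal R) [p.IsPrime] {rs : List R}
    (hreg : IsWeaklyRegular (Localization.AtPrime p) (rs.map (algebraMap R (Localization.AtPrime p)))) :
    ∃ g : R, g ∉ p ∧ ∀ (i : ℕ) (hi : i < rs.length) (x : R),
      rs[i] * x ∈ Ideal.ofList (rs.take i) → g * x ∈ Ideal.ofList (rs.take i) := by
  classical
  let A := Localization.AtPrime p
  rw [Groth.Agent.Nrm16Lib.isWeaklyRegular_iff_forall_mem] at hreg
  have key : ∀ i : Fin rs.length, ∃ g : R, g ∉ p ∧ ∀ x : R,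
      rs[i.1] * x ∈ Ideal.ofList (rs.take i) → g * x ∈ Ideal.ofList (rs.take i) := by
    intro i
    let J := Ideal.ofList (rs.take i)
    let K : Ideal R := Submodule.comap (LinearMap.mulLeft R rs[i.1]) J
    obtain ⟨s, hs⟩ := (isNoetherianRing_iff_ideal_fg R).1 inferInstance K
    have hx : ∀ x : s, ∃ g : R, g ∉ p ∧ g * x ∈ J := by
      intro x
      have hxK : rs[i.1] * (x : R) ∈ J := show (x : R) ∈ K from hs ▸ Submodule.subset_span x.2
      have h1 := hreg i.1 (by simp) (algebraMap R A x) (by
        simpa only [List.getElem_map, List.map_take, Ideal.map_ofList, map_mul, J] using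
          Ideal.mem_map_of_mem (algebraMap R A) hxK)
      simp only [← List.map_take, ← Ideal.map_ofList] at h1
      rw [IsLocalization.algebraMap_mem_map_algebraMap_iff p.primeCompl] at h1
      obtain ⟨g, hg, hgx⟩ := h1
      exact ⟨g, hg, hgx⟩
    choose g hg hgx using hx
    refine ⟨∏ x, g x, fun hmem => ?_, fun x hx => ?_⟩
    · obtain ⟨x, -, hx⟩ := Ideal.IsPrime.prod_mem_iff.1 hmem
      exact hg x hx
    · have : K ≤ Submodule.comap (LinearMap.mulLeft R (∏ x, g x)) J := by
        rw [← hs]
        refine Ideal.span_le.2 fun y hy => ?_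
        show (∏ x, g x) * y ∈ J
        rw [← Finset.mul_prod_erase Finset.univ g (Finset.mem_univ (⟨y, hy⟩ : s)), mul_right_comm]
        exact Ideal.mul_mem_right _ _ (hgx ⟨y, hy⟩)
      exact this hx
  choose g hg hgx using key
  refine ⟨∏ i, g i, fun hmem => ?_, fun i hi x hx => ?_⟩
  · obtain ⟨i, -, hi⟩ := Ideal.IsPrime.prod_mem_iff.1 hmem
    exact hg i hi
  · rw [← Finset.mul_prod_erase Finset.univ g (Finset.mem_univ (⟨i, hi⟩ : Fin rs.length)), mul_right_comm]
    exact Ideal.mul_mem_right _ _ (hgx ⟨i, hi⟩ x hx)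

theorem isWeaklyRegular_take {A : Type u} [CommRing A] {rs : List A} (h : IsWeaklyRegular A rs) (c : ℕ) :
    IsWeaklyRegular A (rs.take c) := by
  rw [Groth.Agent.Nrm16Lib.isWeaklyRegular_iff_forall_mem] at h ⊢
  intro i hi x hx
  rw [List.length_take] at hi
  rw [List.getElem_take, List.take_take, min_eq_left (by omega)] at hx
  rw [List.take_take, min_eq_left (by omega)]
  exact h i (by omega) x hx

variable {S : Type u} [CommRing S]

/-- A surjection of regular rings has a Koszul regular kernel. -/
theorem isKoszulRegularIdeal_ker_of_regular [IsRegularRing R] [IsRegularRing S] (φ : R →+* S)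
    (hφ : Function.Surjective φ) : LCI.IsKoszulRegularIdeal (RingHom.ker φ) := by
  classical
  rw [isKoszulRegularIdeal_iff]
  intro P hP
  let I := RingHom.ker φ
  let q : Ideal S := P.asIdeal.map φ
  have hq : q.IsPrime := Ideal.map_isPrime_of_surjective hφ hP
  have hPq : P.asIdeal = q.comap φ := by
    rw [Ideal.comap_map_of_surjective _ hφ]
    exact (sup_eq_left.2 hP).symm
  let A := Localization.AtPrime P.asIdeal
  let B := Localization.AtPrime q
  let ψ : A →+* B := Localization.localRingHom P.asIdeal q φ hPq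
  have hM : P.asIdeal.primeCompl.map φ = q.primeCompl := by
    ext y
    constructor
    · rintro ⟨x, hx, rfl⟩ hy
      exact hx (show x ∈ P.asIdeal from hPq ▸ hy)
    · intro hy
      obtain ⟨x, rfl⟩ := hφ y
      exact ⟨x, fun hx => hy (Ideal.mem_map_of_mem _ hx), rfl⟩
  have : IsLocalization (P.asIdeal.primeCompl.map φ) B := by rw [hM]; infer_instance
  have hψsurj : Function.Surjective ψ :=
    IsLocalization.map_surjective_of_surjective (M := P.asIdeal.primeCompl) (S := A) (Q := B) hφ
  have hψker : RingHom.ker ψ = I.map (algebraMap R A) := IsLocalization.ker_map B φ hM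
  have : IsRegularLocalRing (A ⧸ I.map (algebraMap R A)) := by
    rw [← hψker]
    exact IsRegularLocalRing.of_ringEquiv (RingHom.quotientKerEquivOfSurjective hψsurj).symm
  obtain ⟨rs, hlen, hmax, c, hc, hI⟩ :=
    Groth.Agent.CAlgH3.exists_sop_of_regular_quotient _ A rfl (I.map (algebraMap R A))
  have hreg := isWeaklyRegular_take
    (Groth.Agent.CAlgH3.isRegular_of_ofList_eq_maximalIdeal rs hmax hlen).toIsWeaklyRegular c
  let l := rs.take c
  have hK : KReg l.get := Groth.Agent.CAlgH.KoszulH1.kreg_of_isWeaklyRegular (by rw [List.ofFn_get]; exact hreg)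
  have hmem : ∀ i, ∃ a : I, ∃ u : A, IsUnit u ∧ l.get i * u = algebraMap R A a := fun i => by
    obtain ⟨⟨a, m⟩, hm⟩ := (IsLocalization.mem_map_algebraMap_iff P.asIdeal.primeCompl A).1
      (show l.get i ∈ I.map (algebraMap R A) from hI ▸ Ideal.subset_span (List.get_mem l i))
    exact ⟨a, algebraMap R A m, IsLocalization.map_units A m, hm⟩
  choose a u hu hau using hmem
  have hspan : Ideal.span (Set.range fun i => algebraMap R A (a i : R)) = Ideal.span (Set.range l.get) := by
    refine le_antisymm (Ideal.span_le.2 ?_) (Ideal.span_le.2 ?_)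
    · rintro _ ⟨i, rfl⟩
      show algebraMap R A (a i : R) ∈ Ideal.span (Set.range l.get)
      rw [← hau]
      exact Ideal.mul_mem_right _ _ (Ideal.subset_span ⟨i, rfl⟩)
    · rintro _ ⟨i, rfl⟩
      refine (Ideal.mul_unit_mem_iff_mem _ (hu i)).1 ?_
      rw [hau]
      exact Ideal.subset_span ⟨i, rfl⟩
  have hspanI : I.map (algebraMap R A) = Ideal.span (Set.range fun i => algebraMap R A (a i : R)) := by
    rw [hspan, Set.range_list_get]; exact hI
  have hKa : KReg fun i => algebraMap R A (a i : R) := kreg_of_span_eq hK hspan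
  let ra : List R := List.ofFn fun i => (a i : R)
  have hregA : IsWeaklyRegular A (ra.map (algebraMap R A)) := by
    rw [List.map_ofFn]
    refine Groth.Agent.CAlgH.KoszulH1.isWeaklyRegular_of_kreg (fun i => ?_) hKa
    rw [IsLocalRing.jacobson_eq_maximalIdeal ⊥ bot_ne_top]
    exact (IsLocalization.AtPrime.to_map_mem_maximal_iff A P.asIdeal _).2 (hP (a i).2)
  obtain ⟨g, hg, hcolon⟩ := exists_colon_of_weaklyRegular P.asIdeal hregA
  -- a multiplier for the span
  obtain ⟨s, hs, hsI⟩ : ∃ s ∉ P.asIdeal, ∀ x ∈ I, s * x ∈ Ideal.span (Set.range fun i => (a i : R)) := by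
    obtain ⟨T, hT⟩ := (isNoetherianRing_iff_ideal_fg R).1 inferInstance I
    have h1 : ∀ t : T, ∃ s : R, s ∉ P.asIdeal ∧ s * t.1 ∈ Ideal.span (Set.range fun i => (a i : R)) := fun t => by
      have : algebraMap R A t.1 ∈ (Ideal.span (Set.range fun i => (a i : R))).map (algebraMap R A) := by
        rw [Ideal.map_span, ← Set.range_comp]
        exact hspanI.le (Ideal.mem_map_of_mem _ (hT.le (Submodule.subset_span t.2)))
      obtain ⟨s, hs, hst⟩ := (IsLocalization.algebraMap_mem_map_algebraMap_iff P.asIdeal.primeCompl A _ _).1 this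
      exact ⟨s, hs, hst⟩
    choose s hsp hst using h1
    refine ⟨∏ t, s t, fun h => ?_, fun x hx => ?_⟩
    · obtain ⟨t, -, ht⟩ := Ideal.IsPrime.prod_mem_iff.1 h
      exact hsp t ht
    · have : I ≤ Submodule.comap (LinearMap.mulLeft R (∏ t, s t)) (Ideal.span (Set.range fun i => (a i : R))) := by
        refine le_trans hT.ge (Ideal.span_le.2 ?_)
        intro t ht
        show (∏ t, s t) * t ∈ Ideal.span (Set.range fun i => (a i : R))
        obtain ⟨d, hd⟩ := Finset.dvd_prod_of_mem s (Finset.mem_univ ⟨t, ht⟩)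
        rw [hd, mul_comm (s _) d, mul_assoc]
        exact Ideal.mul_mem_left _ _ (hst ⟨t, ht⟩)
      exact this hx
  have hh : g * s ∉ P.asIdeal := fun h => (P.2.mem_or_mem h).elim hg hs
  let L := Localization.Away (g * s)
  have hregL := Groth.Agent.Nrm16Lib.isRegular_away P.asIdeal (rs := ra)
    (fun r hr => by
      obtain ⟨i, rfl⟩ := List.mem_ofFn.1 hr
      exact hP (a i).2) hh
    (fun i hi x hx => by rw [mul_comm g s, mul_assoc]; exact Ideal.mul_mem_left _ _ (hcolon i hi x hx)) L
  refine ⟨g * s, hh, _, fun i => (a i : R), fun i => (a i).2, ?_, le_antisymm ?_ ?_⟩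
  · refine Groth.Agent.CAlgH.KoszulH1.kreg_of_isWeaklyRegular ?_
    have := hregL.toIsWeaklyRegular
    rwa [List.map_ofFn] at this
  · rw [Ideal.map_le_iff_le_comap]
    intro x hx
    have h1 := Ideal.mem_map_of_mem (algebraMap R L) (hsI x hx)
    rw [map_mul, Ideal.map_span, ← Set.range_comp] at h1
    show algebraMap R L x ∈ Ideal.span (Set.range fun i => algebraMap R L (a i : R))
    exact (Ideal.unit_mul_mem_iff_mem _
      (isUnit_of_dvd_unit (map_dvd _ (dvd_mul_left s g)) (IsLocalization.Away.algebraMap_isUnit (g * s)))).1 h1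
  · rw [Ideal.span_le]
    rintro _ ⟨i, rfl⟩
    exact Ideal.mem_map_of_mem _ (a i).2

theorem isLCI_of_regular [IsRegularRing R] [IsRegularRing S] [Algebra R S] [Algebra.FiniteType R S] :
    LCI.IsLCI R S := by
  obtain ⟨n, α, hα⟩ := (Algebra.FiniteType.iff_quotient_mvPolynomial'').1 ‹Algebra.FiniteType R S›
  exact ⟨‹_›, n, α, hα, isKoszulRegularIdeal_ker_of_regular α.toRingHom hα⟩

end Groth.Agent.FlatMorKoszul
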