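import Groth.Agent.FlatMorKoszul.BaseChange
import Groth.Agent.FlatMorKoszul.RegularLCI
import Groth.Agent.CAlgH.CIOpen
import Groth.Agent.CAlgH.KoszulDescent

/-!
# Descent along flat maps and the fibre criterion for Koszul regularity
-/

universe u

set_option autoImplicit false
set_option backward.isDefEq.respectTransparency false

open RingTheory.Sequence TensorProduct

namespace Groth.Agent.FlatMorKoszul

open Groth.Agent.CAlgH.KoszulRegular

variable {T : Type u} [CommRing T]

/-- Spreading out from the local ring. -/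
theorem KAt.of_atPrime [IsNoetherianRing T] {I P : Ideal T} [P.IsPrime] (hIP : I ≤ P) {n : ℕ} (a : Fin n → T)
    (ha : ∀ i, a i ∈ I) (hK : KReg fun i => algebraMap T (Localization.AtPrime P) (a i))
    (hspan : I.map (algebraMap T (Localization.AtPrime P)) =
      Ideal.span (Set.range fun i => algebraMap T (Localization.AtPrime P) (a i))) : KAt I P := by
  classical
  let A := Localization.AtPrime P
  let ra : List T := List.ofFn a
  have hregA : IsWeaklyRegular A (ra.map (algebraMap T A)) := by
    rw [List.map_ofFn]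
    refine Groth.Agent.CAlgH.KoszulH1.isWeaklyRegular_of_kreg (fun i => ?_) hK
    rw [IsLocalRing.jacobson_eq_maximalIdeal ⊥ bot_ne_top]
    exact (IsLocalization.AtPrime.to_map_mem_maximal_iff A P _).2 (hIP (ha i))
  obtain ⟨g, hg, hcolon⟩ := exists_colon_of_weaklyRegular P hregA
  obtain ⟨s, hs, hsI⟩ : ∃ s ∉ P, ∀ x ∈ I, s * x ∈ Ideal.span (Set.range a) := by
    obtain ⟨F, hT⟩ := (isNoetherianRing_iff_ideal_fg T).1 inferInstance I
    have h1 : ∀ t : F, ∃ s : T, s ∉ P ∧ s * t.1 ∈ Ideal.span (Set.range a) := fun t => by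
      have : algebraMap T A t.1 ∈ (Ideal.span (Set.range a)).map (algebraMap T A) := by
        rw [Ideal.map_span, ← Set.range_comp]
        exact hspan.le (Ideal.mem_map_of_mem _ (hT.le (Submodule.subset_span t.2)))
      obtain ⟨s, hs, hst⟩ := (IsLocalization.algebraMap_mem_map_algebraMap_iff P.primeCompl A _ _).1 this
      exact ⟨s, hs, hst⟩
    choose s hsp hst using h1
    refine ⟨∏ t, s t, fun h => ?_, fun x hx => ?_⟩
    · obtain ⟨t, -, ht⟩ := Ideal.IsPrime.prod_mem_iff.1 h
      exact hsp t ht
    · have : I ≤ Submodule.comap (LinearMap.mulLeft T (∏ t, s t)) (Ideal.span (Set.range a)) := by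
        refine le_trans hT.ge (Ideal.span_le.2 ?_)
        intro t ht
        show (∏ t, s t) * t ∈ Ideal.span (Set.range a)
        obtain ⟨d, hd⟩ := Finset.dvd_prod_of_mem s (Finset.mem_univ ⟨t, ht⟩)
        rw [hd, mul_comm (s _) d, mul_assoc]
        exact Ideal.mul_mem_left _ _ (hst ⟨t, ht⟩)
      exact this hx
  have hh : g * s ∉ P := fun h => (Ideal.IsPrime.mem_or_mem ‹_› h).elim hg hs
  let L := Localization.Away (g * s)
  have hregL := Groth.Agent.Nrm16Lib.isRegular_away P (rs := ra)
    (fun r hr => by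
      obtain ⟨i, rfl⟩ := List.mem_ofFn.1 hr
      exact hIP (ha i)) hh
    (fun i hi x hx => by rw [mul_comm g s, mul_assoc]; exact Ideal.mul_mem_left _ _ (hcolon i hi x hx)) L
  refine ⟨g * s, hh, _, a, ha, ?_, le_antisymm ?_ ?_⟩
  · refine Groth.Agent.CAlgH.KoszulH1.kreg_of_isWeaklyRegular ?_
    have := hregL.toIsWeaklyRegular
    rwa [List.map_ofFn] at this
  · rw [Ideal.map_le_iff_le_comap]
    intro x hx
    have h1 := Ideal.mem_map_of_mem (algebraMap T L) (hsI x hx)
    rw [map_mul, Ideal.map_span, ← Set.range_comp] at h1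
    show algebraMap T L x ∈ Ideal.span (Set.range fun i => algebraMap T L (a i))
    exact (Ideal.unit_mul_mem_iff_mem _
      (isUnit_of_dvd_unit (map_dvd _ (dvd_mul_left s g)) (IsLocalization.Away.algebraMap_isUnit (g * s)))).1 h1
  · rw [Ideal.span_le]
    rintro _ ⟨i, rfl⟩
    exact Ideal.mem_map_of_mem _ (ha i)

/-- Descent along a flat map out of a Noetherian ring. -/
theorem KAt.descend [IsNoetherianRing T] {T' : Type u} [CommRing T'] [Algebra T T'] [Module.Flat T T']
    {I : Ideal T} {Q : Ideal T'} [Q.IsPrime] (hIQ : I ≤ Q.comap (algebraMap T T'))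
    (hK : KAt (I.map (algebraMap T T')) Q) : KAt I (Q.comap (algebraMap T T')) := by
  obtain ⟨h, hh, m, g, hgI, hg, hspan⟩ := hK
  let P := Q.comap (algebraMap T T')
  let A := Localization.AtPrime P
  let B := Localization.AtPrime Q
  let φ : A →+* B := Localization.localRingHom P Q (algebraMap T T') rfl
  letI : Algebra A B := φ.toAlgebra
  have hflat : (algebraMap T T').Flat := RingHom.flat_algebraMap_iff.2 inferInstance
  have : Module.Flat A B := hflat.localRingHom Q P rfl
  have : IsLocalHom (algebraMap A B) := Localization.isLocalHom_localRingHom _ _ _ rfl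
  have : Module.FaithfullyFlat A B := Module.FaithfullyFlat.of_flat_of_isLocalHom
  obtain ⟨r, f, s, hs, hfI, hsf, hirr⟩ := Groth.Agent.CAlgH.KoszulDescent.exists_irred_generators I
    ((isNoetherianRing_iff_ideal_fg T).1 inferInstance I) P
  have hus : IsUnit (algebraMap T A s) := IsLocalization.map_units A (⟨s, hs⟩ : P.primeCompl)
  have hIA : I.map (algebraMap T A) = Ideal.span (Set.range fun i => algebraMap T A (f i)) := by
    refine le_antisymm (Ideal.map_le_iff_le_comap.2 fun a ha => ?_) (Ideal.span_le.2 ?_)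
    · rw [Ideal.mem_comap]
      have h1 := Ideal.mem_map_of_mem (algebraMap T A) (hsf a ha)
      rw [map_mul, Ideal.map_span, ← Set.range_comp] at h1
      exact (Ideal.unit_mul_mem_iff_mem _ hus).1 h1
    · rintro _ ⟨i, rfl⟩
      exact Ideal.mem_map_of_mem _ (hfI i)
  have huh : IsUnit (algebraMap T' B h) := IsLocalization.map_units B (⟨h, hh⟩ : Q.primeCompl)
  have hgB := kreg_of_isUnit Q.primeCompl B huh hg
  have hspanB := map_eq_span_of_isUnit B huh hspan
  have hsp : (Ideal.span (Set.range fun i => algebraMap T A (f i))).map (algebraMap A B) =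
      Ideal.span (Set.range fun i => algebraMap T' B (g i)) := by
    rw [← hIA, ← hspanB, Ideal.map_map, Ideal.map_map]
    refine congrArg (Ideal.map · I) (RingHom.ext fun x => ?_)
    exact Localization.localRingHom_to_map P Q _ rfl x
  have hne : Ideal.span (Set.range fun i => algebraMap T' B (g i)) ≠ ⊤ := by
    rw [← hspanB]
    refine ne_top_of_le_ne_top (IsLocalRing.maximalIdeal.isMaximal B).ne_top ?_
    rw [← Localization.AtPrime.map_eq_maximalIdeal]
    exact Ideal.map_mono (Ideal.map_le_iff_le_comap.2 hIQ)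
  exact KAt.of_atPrime hIQ f hfI (Groth.Agent.CAlgH.KoszulDescent.kreg_of_irred hirr hgB hsp hne).2 hIA

theorem residueField_hom_eq {R : Type u} [CommRing R] (p : Ideal R) [p.IsPrime] {S : Type u} [CommRing S]
    (f g : p.ResidueField →+* S) (h : ∀ r : R, f (algebraMap R _ r) = g (algebraMap R _ r)) (c : p.ResidueField) :
    f c = g c :=
  RingHom.congr_fun (Ideal.ResidueField.ringHom_ext (RingHom.ext h)) c

set_option maxHeartbeats 400000 in
/-- The local ring of the fibre. -/
theorem exists_fibLocEquiv {R : Type u} [CommRing R] [Algebra R T] (p : Ideal R) [p.IsPrime]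
    (Q : Ideal (p.Fiber T)) [Q.IsPrime] (P : Ideal T) [P.IsPrime]
    (hP : P = Q.comap (Algebra.TensorProduct.includeRight : T →ₐ[R] p.Fiber T).toRingHom)
    (hp : P.comap (algebraMap R T) = p) :
    ∃ e : Localization.AtPrime Q ≃+*
        Localization.AtPrime P ⧸ (P.comap (algebraMap R T)).map (algebraMap R (Localization.AtPrime P)),
      ∀ t : T, e (algebraMap _ _ ((1 : p.ResidueField) ⊗ₜ[R] t)) =
        Ideal.Quotient.mk _ (algebraMap T (Localization.AtPrime P) t) := by
  let inc : T →+* p.Fiber T := (Algebra.TensorProduct.includeRight : T →ₐ[R] p.Fiber T).toRingHom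
  let pP := (P.comap (algebraMap R T)).map (algebraMap R (Localization.AtPrime P))
  let F := Localization.AtPrime P ⧸ pP
  let loc : Localization.AtPrime P →+* Localization.AtPrime Q := Localization.localRingHom P Q inc hP
  have hloc : ∀ t, loc (algebraMap T _ t) = algebraMap _ (Localization.AtPrime Q) (inc t) :=
    fun t => Localization.localRingHom_to_map P Q inc hP t
  have hkill : pP ≤ RingHom.ker loc := by
    rw [Ideal.map_le_iff_le_comap]
    intro a ha
    rw [hp] at ha
    show loc (algebraMap R (Localization.AtPrime P) a) = 0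
    rw [IsScalarTower.algebraMap_apply R T (Localization.AtPrime P), hloc,
      show inc (algebraMap R T a) = algebraMap R (p.Fiber T) a from
        (Algebra.TensorProduct.includeRight : T →ₐ[R] p.Fiber T).commutes a,
      Algebra.TensorProduct.algebraMap_apply, show algebraMap R p.ResidueField a = 0 from
        Ideal.algebraMap_residueField_eq_zero.2 ha, TensorProduct.zero_tmul, map_zero]
  let b : F →+* Localization.AtPrime Q := Ideal.Quotient.lift pP loc hkill
  let h1 : T →ₐ[R] F := (Ideal.Quotient.mkₐ R pP).comp (IsScalarTower.toAlgHom R T (Localization.AtPrime P))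
  let h0 : p.ResidueField →ₐ[R] F := Ideal.ResidueField.liftₐ p (Algebra.ofId R F)
    (fun a ha => by
      rw [RingHom.mem_ker]
      show algebraMap R F a = 0
      rw [IsScalarTower.algebraMap_apply R (Localization.AtPrime P) F]
      exact Ideal.Quotient.eq_zero_iff_mem.2 (Ideal.mem_map_of_mem _ (hp.symm ▸ ha)))
    (fun a ha => by
      show IsUnit (algebraMap R F a)
      rw [IsScalarTower.algebraMap_apply R (Localization.AtPrime P) F, IsScalarTower.algebraMap_apply R T]
      exact (IsLocalization.map_units (Localization.AtPrime P)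
        (⟨algebraMap R T a, fun hc => ha (hp ▸ hc)⟩ : P.primeCompl)).map _)
  let a0 : p.Fiber T →ₐ[R] F := Algebra.TensorProduct.lift h0 h1 fun _ _ => .all _ _
  have ha0 : ∀ t, a0 (inc t) = Ideal.Quotient.mk pP (algebraMap T _ t) := fun t => by
    show Algebra.TensorProduct.lift h0 h1 _ ((1 : p.ResidueField) ⊗ₜ[R] t) = _
    rw [Algebra.TensorProduct.lift_tmul, map_one, one_mul]
    rfl
  have hunit : ∀ x : Q.primeCompl, IsUnit (a0 x.1) := fun x => by
    obtain ⟨r, hr, t, ht⟩ := Ideal.Fiber.exists_smul_eq_one_tmul p x.1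
    have hrQ : algebraMap R (p.Fiber T) r ∉ Q := fun hc => hr (by
      rw [← hp, hP, Ideal.mem_comap, Ideal.mem_comap]
      show inc (algebraMap R T r) ∈ Q
      rwa [show inc (algebraMap R T r) = algebraMap R (p.Fiber T) r from
        (Algebra.TensorProduct.includeRight : T →ₐ[R] p.Fiber T).commutes r])
    have htP : t ∉ P := fun hc => by
      rw [hP, Ideal.mem_comap] at hc
      have hc' : (1 : p.ResidueField) ⊗ₜ[R] t ∈ Q := hc
      rw [← ht, Algebra.smul_def] at hc'
      exact (Ideal.IsPrime.mem_or_mem ‹_› hc').elim hrQ x.2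
    have h2 : IsUnit (a0 ((1 : p.ResidueField) ⊗ₜ[R] t)) := by
      rw [show a0 ((1 : p.ResidueField) ⊗ₜ[R] t) = Ideal.Quotient.mk pP (algebraMap T _ t) from ha0 t]
      exact (IsLocalization.map_units (Localization.AtPrime P) (⟨t, htP⟩ : P.primeCompl)).map _
    rw [← ht, Algebra.smul_def, map_mul] at h2
    exact isUnit_of_mul_isUnit_right h2
  let a : Localization.AtPrime Q →+* F := IsLocalization.lift (M := Q.primeCompl) (g := a0.toRingHom) hunit
  have ha : ∀ x, a (algebraMap _ _ x) = a0 x := fun x => IsLocalization.lift_eq (g := a0.toRingHom) hunit x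
  have hb : ∀ z, b (Ideal.Quotient.mk pP z) = loc z := fun z => Ideal.Quotient.lift_mk pP loc hkill
  have hab : a.comp b = RingHom.id F := by
    refine Ideal.Quotient.ringHom_ext (IsLocalization.ringHom_ext P.primeCompl (RingHom.ext fun t => ?_))
    show a (b (Ideal.Quotient.mk pP (algebraMap T _ t))) = Ideal.Quotient.mk pP (algebraMap T _ t)
    rw [show b (Ideal.Quotient.mk pP (algebraMap T _ t)) = algebraMap _ (Localization.AtPrime Q) (inc t) from
      (hb _).trans (hloc t)]
    exact (ha _).trans (ha0 t)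
  have hba : b.comp a = RingHom.id _ := by
    refine IsLocalization.ringHom_ext Q.primeCompl (RingHom.ext fun x => ?_)
    simp only [RingHom.comp_apply, ha, RingHom.id_apply]
    induction x using TensorProduct.induction_on with
    | zero => simp
    | tmul c t =>
      rw [show c ⊗ₜ[R] t = (c ⊗ₜ[R] (1 : T)) * ((1 : p.ResidueField) ⊗ₜ[R] t) by
        rw [Algebra.TensorProduct.tmul_mul_tmul, mul_one, one_mul], map_mul, map_mul, map_mul]
      congr 1
      · refine residueField_hom_eq p (S := Localization.AtPrime Q) ((b.comp a0.toRingHom).comp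
          (Algebra.TensorProduct.includeLeft (S := R) : p.ResidueField →ₐ[R] p.Fiber T).toRingHom)
          ((algebraMap _ (Localization.AtPrime Q)).comp
          (Algebra.TensorProduct.includeLeft (S := R) : p.ResidueField →ₐ[R] p.Fiber T).toRingHom) (fun r => ?_) c
        show b (a0 (algebraMap R p.ResidueField r ⊗ₜ[R] (1 : T))) =
          algebraMap _ (Localization.AtPrime Q) (algebraMap R p.ResidueField r ⊗ₜ[R] (1 : T))
        rw [← Algebra.TensorProduct.algebraMap_apply, a0.commutes,
          IsScalarTower.algebraMap_apply R (Localization.AtPrime P) F]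
        show b (Ideal.Quotient.mk pP (algebraMap R _ r)) = _
        rw [hb, IsScalarTower.algebraMap_apply R T (Localization.AtPrime P), hloc]
        exact congrArg _ ((Algebra.TensorProduct.includeRight : T →ₐ[R] p.Fiber T).commutes r)
      · show b (a0 (inc t)) = _
        rw [ha0, hb, hloc]
        rfl
    | add x y hx hy => simp only [map_add, hx, hy]
  exact ⟨RingEquiv.ofRingHom a b hab hba, fun t => (ha _).trans (ha0 t)⟩

theorem kreg_map_equiv {A B : Type u} [CommRing A] [CommRing B] (e : A ≃+* B) {n : ℕ} {f : Fin n → A} (hf : KReg f) :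
    KReg fun i => e (f i) :=
  kreg_map (RingHom.Flat.of_bijective (f := e.toRingHom) e.bijective) hf

theorem map_span_equiv {A B : Type u} [CommRing A] [CommRing B] (e : A ≃+* B) {n : ℕ} (f : Fin n → A) :
    (Ideal.span (Set.range f)).map e.toRingHom = Ideal.span (Set.range fun i => e (f i)) := by
  rw [Ideal.map_span, ← Set.range_comp]
  rfl

theorem isRegularIdeal_of_kreg {F : Type u} [CommRing F] [IsLocalRing F] [IsNoetherianRing F] {n : ℕ} {f : Fin n → F}
    (hf : KReg f) (hmem : ∀ i, f i ∈ IsLocalRing.maximalIdeal F) {I : Ideal F} (hI : I = Ideal.span (Set.range f)) :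
    CInt.IsRegularIdeal I := by
  refine ⟨List.ofFn f, Groth.Agent.CAlgH.RegularIdealLocal.isRegular_of_mem ?_ fun r hr => ?_, ?_⟩
  · refine Groth.Agent.CAlgH.KoszulH1.isWeaklyRegular_of_kreg (fun i => ?_) hf
    rw [IsLocalRing.jacobson_eq_maximalIdeal ⊥ bot_ne_top]
    exact hmem i
  · obtain ⟨i, rfl⟩ := List.mem_ofFn.1 hr
    exact hmem i
  · rw [ofList_ofFn, hI]

theorem KAt.of_regular_generators {J P : Ideal T} {rs : List T} {G : T} (hG : G ∉ P)
    (hrsJ : Ideal.ofList rs ≤ J) (hgen : ∀ x ∈ J, G * x ∈ Ideal.ofList rs)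
    (hcolon : ∀ (i : ℕ) (hi : i < rs.length) (x : T), rs[i] * x ∈ Ideal.ofList (rs.take i) →
      ∃ k : ℕ, G ^ k * x ∈ Ideal.ofList (rs.take i)) : KAt J P := by
  have hwrL := Groth.Agent.CAlgH.CIOpen.isWeaklyRegular_localization (L := Localization.Away G)
    (Submonoid.powers G) (Submonoid.mem_powers G) hcolon
  have hmapL := Groth.Agent.CAlgH.CIOpen.map_eq_of_mul_mem (L := Localization.Away G)
    (Submonoid.powers G) (Submonoid.mem_powers G) hrsJ hgen
  refine ⟨G, hG, rs.length, rs.get, fun i => hrsJ (Ideal.subset_span (List.get_mem rs i)), ?_, ?_⟩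
  · refine Groth.Agent.CAlgH.KoszulH1.kreg_of_isWeaklyRegular ?_
    rw [show (fun i => algebraMap T (Localization.Away G) (rs.get i)) = algebraMap T _ ∘ rs.get from rfl,
      ← List.map_ofFn, List.ofFn_get]
    exact hwrL
  · rw [hmapL, Ideal.map_ofList]
    refine congrArg Ideal.span (Set.ext fun x => ?_)
    simp only [Set.mem_range, Set.mem_setOf_eq, List.mem_map]
    exact ⟨fun ⟨a, ha, hax⟩ => by obtain ⟨i, rfl⟩ := List.get_of_mem ha; exact ⟨i, hax⟩,
      fun ⟨i, hi⟩ => ⟨_, List.get_mem rs i, hi⟩⟩

theorem isRegularIdeal_map_of_equiv {L F : Type u} [CommRing L] [CommRing F] [IsLocalRing L] [IsNoetherianRing L]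
    [IsLocalRing F] (e : L ≃+* F) (j : T →+* L) (π : T →+* F) (hπ : ∀ t, e (j t) = π t) (J : Ideal T) {n : ℕ}
    {f : Fin n → L} (hf : KReg f) (hspan : J.map j = Ideal.span (Set.range f))
    (hmax : J.map j ≤ IsLocalRing.maximalIdeal L) : CInt.IsRegularIdeal (J.map π) := by
  have := isNoetherianRing_of_ringEquiv L e
  refine isRegularIdeal_of_kreg (kreg_map_equiv e hf) (fun i => ?_) ?_
  · have h1 : f i ∈ IsLocalRing.maximalIdeal L := hmax (hspan ▸ Ideal.subset_span ⟨i, rfl⟩)
    rw [IsLocalRing.mem_maximalIdeal, mem_nonunits_iff] at h1 ⊢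
    exact fun hu => h1 ((isUnit_map_iff e _).1 hu)
  · rw [← map_span_equiv, ← hspan, Ideal.map_map]
    exact congrArg (Ideal.map · J) (RingHom.ext fun t => (hπ t).symm)

theorem map_le_maximal_atPrime {B : Type u} [CommRing B] {J Q : Ideal B} [Q.IsPrime] (h : J ≤ Q) :
    J.map (algebraMap B (Localization.AtPrime Q)) ≤ IsLocalRing.maximalIdeal (Localization.AtPrime Q) := by
  rw [← Localization.AtPrime.map_eq_maximalIdeal]
  exact Ideal.map_mono h

theorem isLocalRing_of_equiv {L F : Type u} [CommRing L] [CommRing F] [IsLocalRing L] (e : L ≃+* F) :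
    IsLocalRing F :=
  e.isLocalRing

theorem isRegularIdeal_map_of_atPrime {B F : Type u} [CommRing B] [IsNoetherianRing B] [CommRing F] (inc : T →+* B)
    (Q : Ideal B) [Q.IsPrime] (e : Localization.AtPrime Q ≃+* F) (π : T →+* F)
    (he : ∀ t, e (algebraMap B (Localization.AtPrime Q) (inc t)) = π t) (J : Ideal T) (hJ : J.map inc ≤ Q)
    (hK : KAt (J.map inc) Q) : CInt.IsRegularIdeal (J.map π) := by
  obtain ⟨h, hh, n, f, hfJ, hf, hspan⟩ := hK
  let L := Localization.AtPrime Q
  have huh : IsUnit (algebraMap B L h) := IsLocalization.map_units L (⟨h, hh⟩ : Q.primeCompl)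
  have hfQ := kreg_of_isUnit Q.primeCompl L huh hf
  have hspanQ := map_eq_span_of_isUnit L huh hspan
  rw [Ideal.map_map] at hspanQ
  have : IsNoetherianRing L := IsLocalization.isNoetherianRing Q.primeCompl L inferInstance
  have : IsLocalRing F := isLocalRing_of_equiv (L := L) e
  have hle : J.map ((algebraMap B L).comp inc) ≤ IsLocalRing.maximalIdeal L := by
    rw [← Ideal.map_map]
    exact map_le_maximal_atPrime hJ
  exact isRegularIdeal_map_of_equiv (L := L) e ((algebraMap B L).comp inc) π he J hfQ hspanQ hle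

set_option maxHeartbeats 400000 in
/-- The fibre criterion. -/
theorem KAt.of_fiber {R : Type u} [CommRing R] [Algebra R T] [Algebra.FinitePresentation R T] [Module.Flat R T]
    {J : Ideal T} (hJ : J.FG) [Module.Flat R (T ⧸ J)] (p : Ideal R) [p.IsPrime] (Q : Ideal (p.Fiber T)) [Q.IsPrime]
    (P : Ideal T) [P.IsPrime]
    (hP : P = Q.comap (Algebra.TensorProduct.includeRight : T →ₐ[R] p.Fiber T).toRingHom)
    (hp : P.comap (algebraMap R T) = p) (hJP : J ≤ P)
    (hK : KAt (J.map (Algebra.TensorProduct.includeRight : T →ₐ[R] p.Fiber T).toRingHom) Q) : KAt J P := by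
  obtain ⟨e, he⟩ := exists_fibLocEquiv p Q P hP hp
  have : IsNoetherianRing (p.Fiber T) := Algebra.FiniteType.isNoetherianRing p.ResidueField _
  let π : T →+* Localization.AtPrime P ⧸ (P.comap (algebraMap R T)).map (algebraMap R (Localization.AtPrime P)) :=
    (Ideal.Quotient.mk _).comp (algebraMap T (Localization.AtPrime P))
  have hreg : CInt.IsRegularIdeal (J.map π) := isRegularIdeal_map_of_atPrime
    (Algebra.TensorProduct.includeRight : T →ₐ[R] p.Fiber T).toRingHom Q e π he J
    (Ideal.map_le_iff_le_comap.2 (hP ▸ hJP)) hK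
  rw [← Ideal.map_map] at hreg
  obtain ⟨rs, G, hG, hrsJ, hgen, hcolon, -⟩ :=
    Groth.Agent.CAlgH.CIOpen.exists_regular_generators J hJ P hreg
  exact KAt.of_regular_generators hG hrsJ hgen hcolon

end Groth.Agent.FlatMorKoszul
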