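import Groth.Agent.FlatMorKoszul.Quot
import Groth.Agent.CAlgH.KoszulDescent
import Groth.Agent.CAlgH.KoszulH1
import Groth.Agent.Misc15.KoszulTopLim
import Mathlib.RingTheory.Polynomial.Basic

/-!
# Removing and adding polynomial variables
-/

universe u

set_option autoImplicit false
set_option backward.isDefEq.respectTransparency false

namespace Groth.Agent.FlatMorKoszul

open Groth.Agent.CAlgH.KoszulRegular MvPolynomial
open Groth.Agent.CAlgH.KoszulDescent (Irred)

variable {R : Type u} [CommRing R] {k : ℕ}

theorem sub_C_constantCoeff_mem (p : MvPolynomial (Fin k) R) :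
    p - C ((constantCoeff : MvPolynomial (Fin k) R →+* R) p) ∈ Ideal.span (Set.range (X : Fin k → MvPolynomial (Fin k) R)) := by
  induction p using MvPolynomial.induction_on with
  | C a => simp
  | add p q hp hq => rw [map_add, map_add, add_sub_add_comm]; exact add_mem hp hq
  | mul_X p i _ =>
    simp only [map_mul, constantCoeff_X, mul_zero, map_zero, sub_zero]
    exact Ideal.mul_mem_left _ p (Ideal.subset_span ⟨i, rfl⟩)

theorem comap_constantCoeff (I : Ideal R) :
    I.comap (constantCoeff : MvPolynomial (Fin k) R →+* R) =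
      I.map C ⊔ Ideal.span (Set.range (X : Fin k → MvPolynomial (Fin k) R)) := by
  refine le_antisymm (fun p hp => ?_) (sup_le ?_ (Ideal.span_le.2 ?_))
  · exact Submodule.mem_sup.2 ⟨C (constantCoeff p), Ideal.mem_map_of_mem _ hp, _,
      sub_C_constantCoeff_mem p, by abel⟩
  · rw [Ideal.map_le_iff_le_comap]
    intro x hx
    rwa [Ideal.mem_comap, Ideal.mem_comap, constantCoeff_C]
  · rintro _ ⟨i, rfl⟩
    show constantCoeff (X i) ∈ I
    rw [constantCoeff_X]; exact zero_mem _

theorem ker_constantCoeff :
    RingHom.ker (constantCoeff : MvPolynomial (Fin k) R →+* R) =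
      Ideal.span (Set.range (X : Fin k → MvPolynomial (Fin k) R)) := by
  rw [RingHom.ker_eq_comap_bot, comap_constantCoeff, Ideal.map_bot, bot_sup_eq]

theorem constantCoeff_surjective :
    Function.Surjective (constantCoeff : MvPolynomial (Fin k) R →+* R) :=
  fun r => ⟨C r, constantCoeff_C _ r⟩

theorem kreg_X : KReg (X : Fin k → MvPolynomial (Fin k) R) := by
  refine Groth.Agent.CAlgH.KoszulH1.kreg_of_isWeaklyRegular ?_
  have h := Groth.Agent.Misc15.Koszul.isWeaklyRegular_vars_pow R k 1
  simp only [Groth.Agent.Misc15.Koszul.vars, List.map_ofFn, pow_one] at h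
  exact h

theorem isKoszulRegularIdeal_ker_constantCoeff :
    LCI.IsKoszulRegularIdeal (RingHom.ker (constantCoeff : MvPolynomial (Fin k) R →+* R)) := by
  rw [isKoszulRegularIdeal_iff]
  refine fun P _ => ⟨1, P.asIdeal.ne_top_iff_one.1 P.2.ne_top, k, X, fun i => ?_, ?_, ?_⟩
  · rw [ker_constantCoeff]; exact Ideal.subset_span ⟨i, rfl⟩
  · exact kreg_map (RingHom.flat_algebraMap_iff.2 (IsLocalization.flat _ (Submonoid.powers (1 : _)))) kreg_X
  · rw [ker_constantCoeff, Ideal.map_span, ← Set.range_comp]; rfl

/-- Removing polynomial variables. -/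
theorem KAt.of_mvPolynomial {I : Ideal R} {Q : Ideal R} [Q.IsPrime] (hIQ : I ≤ Q)
    (hJ : KAt (I.comap (constantCoeff : MvPolynomial (Fin k) R →+* R))
      (Q.comap (constantCoeff : MvPolynomial (Fin k) R →+* R))) : KAt I Q := by
  classical
  obtain ⟨h, hh, s, g, hgJ, hg, hgs⟩ := hJ
  let P : Ideal (MvPolynomial (Fin k) R) := Q.comap (constantCoeff : MvPolynomial (Fin k) R →+* R)
  have hker : RingHom.ker (constantCoeff : MvPolynomial (Fin k) R →+* R) = Ideal.span (Set.range (X : Fin k → (MvPolynomial (Fin k) R))) := ker_constantCoeff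
  -- the images of the generators
  have hI0 : ∀ (L : Type u) [CommRing L] [Algebra R L], IsUnit (algebraMap R L ((constantCoeff : MvPolynomial (Fin k) R →+* R) h)) →
      I.map (algebraMap R L) = Ideal.span (Set.range fun i => algebraMap R L ((constantCoeff : MvPolynomial (Fin k) R →+* R) (g i))) := by
    intro L _ _ hu
    let χ : Localization.Away h →+* L := IsLocalization.Away.lift (g := (algebraMap R L).comp (constantCoeff : MvPolynomial (Fin k) R →+* R)) h hu
    rw [← Ideal.map_comap_of_surjective (constantCoeff : MvPolynomial (Fin k) R →+* R) constantCoeff_surjective I, Ideal.map_map,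
      show (algebraMap R L).comp (constantCoeff : MvPolynomial (Fin k) R →+* R) = χ.comp (algebraMap (MvPolynomial (Fin k) R) _) from
        RingHom.ext fun t => (IsLocalization.Away.lift_eq (g := (algebraMap R L).comp (constantCoeff : MvPolynomial (Fin k) R →+* R)) h hu t).symm,
      ← Ideal.map_map]
    erw [hgs]
    rw [Ideal.map_span, ← Set.range_comp]
    refine congrArg Ideal.span (congrArg Set.range (funext fun i => ?_))
    exact IsLocalization.Away.lift_eq (g := (algebraMap R L).comp (constantCoeff : MvPolynomial (Fin k) R →+* R)) h hu (g i)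
  obtain ⟨r, f, s0, hs0, hfI', hsf, hirr⟩ := Groth.Agent.CAlgH.KoszulDescent.exists_irred_generators
    (Ideal.span (Set.range fun i => (constantCoeff : MvPolynomial (Fin k) R →+* R) (g i))) (Submodule.fg_span (Set.finite_range _)) Q
  have hle : Ideal.span (Set.range fun i => (constantCoeff : MvPolynomial (Fin k) R →+* R) (g i)) ≤ I :=
    Ideal.span_le.2 (by rintro _ ⟨i, rfl⟩; exact hgJ i)
  have hfI : ∀ i, f i ∈ I := fun i => hle (hfI' i)
  have hh0 : (constantCoeff : MvPolynomial (Fin k) R →+* R) h ∉ Q := hh
  have hIf : ∀ (L : Type u) [CommRing L] [Algebra R L], IsUnit (algebraMap R L ((constantCoeff : MvPolynomial (Fin k) R →+* R) h)) →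
      IsUnit (algebraMap R L s0) → I.map (algebraMap R L) = Ideal.span (Set.range fun i => algebraMap R L (f i)) := by
    intro L _ _ hu hu'
    refine le_antisymm ?_ (Ideal.span_le.2 ?_)
    · rw [hI0 L hu, Ideal.span_le]
      rintro _ ⟨i, rfl⟩
      have h1 := Ideal.mem_map_of_mem (algebraMap R L) (hsf _ (Ideal.subset_span ⟨i, rfl⟩))
      rw [map_mul, Ideal.map_span, ← Set.range_comp] at h1
      exact (Ideal.unit_mul_mem_iff_mem _ hu').1 h1
    · rintro _ ⟨i, rfl⟩
      exact Ideal.mem_map_of_mem _ (hfI i)
  -- the enlarged family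
  let F : Fin (r + k) → (MvPolynomial (Fin k) R) := Fin.append (fun i => C (f i)) X
  have hspan : ∀ (L : Type u) [CommRing L] [Algebra (MvPolynomial (Fin k) R) L], IsUnit (algebraMap (MvPolynomial (Fin k) R) L (C ((constantCoeff : MvPolynomial (Fin k) R →+* R) h))) →
      IsUnit (algebraMap (MvPolynomial (Fin k) R) L (C s0)) →
      (I.comap (constantCoeff : MvPolynomial (Fin k) R →+* R)).map (algebraMap (MvPolynomial (Fin k) R) L) = Ideal.span (Set.range fun i => algebraMap (MvPolynomial (Fin k) R) L (F i)) := by
    intro L _ _ hu hu'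
    letI : Algebra R L := ((algebraMap (MvPolynomial (Fin k) R) L).comp C).toAlgebra
    rw [comap_constantCoeff, Ideal.map_sup, Ideal.map_map, Ideal.map_span, ← Set.range_comp,
      show (algebraMap (MvPolynomial (Fin k) R) L).comp C = algebraMap R L from rfl, hIf L hu hu', ← Ideal.span_union, ← range_append]
    refine congrArg Ideal.span (congrArg Set.range (funext fun i => ?_))
    exact Fin.addCases (fun i => by simp [F]; rfl) (fun i => by simp [F]) i
  let TP := Localization.AtPrime P
  let RQ := Localization.AtPrime Q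
  have hnotP : ∀ a : R, a ∉ Q → C a ∉ P := fun a ha hc => ha (by
    have h1 : (constantCoeff : MvPolynomial (Fin k) R →+* R) (C a) ∈ Q := hc
    rwa [show (constantCoeff : MvPolynomial (Fin k) R →+* R) (C a) = a from constantCoeff_C _ a] at h1)
  have hirrF : Irred fun i => algebraMap (MvPolynomial (Fin k) R) TP (F i) := by
    intro j
    refine Fin.addCases (fun j => ?_) (fun j => ?_) j <;> intro hj
    · let ψ : TP →+* RQ := Localization.localRingHom P Q (constantCoeff : MvPolynomial (Fin k) R →+* R) rfl
      have hψ : ∀ x, ψ (algebraMap (MvPolynomial (Fin k) R) TP x) = algebraMap R RQ ((constantCoeff : MvPolynomial (Fin k) R →+* R) x) :=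
        fun x => Localization.localRingHom_to_map P Q (constantCoeff : MvPolynomial (Fin k) R →+* R) rfl x
      have h1 := Ideal.mem_map_of_mem ψ hj
      rw [Ideal.map_span, Set.image_image, hψ, show (constantCoeff : MvPolynomial (Fin k) R →+* R) (F (j.castAdd k)) = f j by simp [F]] at h1
      refine hirr j (Ideal.span_le.2 ?_ h1)
      rintro _ ⟨i, hi, rfl⟩
      revert hi
      refine Fin.addCases (fun i => ?_) (fun i => ?_) i <;> intro hi
      · show ψ _ ∈ _
        rw [hψ, show (constantCoeff : MvPolynomial (Fin k) R →+* R) (F (i.castAdd k)) = f i by simp [F]]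
        exact Ideal.subset_span ⟨i, fun e => hi (by rw [e]; rfl), rfl⟩
      · show ψ _ ∈ _
        rw [hψ, show (constantCoeff : MvPolynomial (Fin k) R →+* R) (F (i.natAdd r)) = 0 by simp [F], map_zero]
        exact zero_mem _
    · have h1 : algebraMap (MvPolynomial (Fin k) R) TP (F (j.natAdd r)) ∈ (Ideal.span (F '' {j.natAdd r}ᶜ)).map (algebraMap (MvPolynomial (Fin k) R) TP) := by
        rw [Ideal.map_span, Set.image_image]; exact hj
      obtain ⟨t, ht, htj⟩ := (IsLocalization.algebraMap_mem_map_algebraMap_iff P.primeCompl TP _ _).1 h1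
      let π : (MvPolynomial (Fin k) R) →+* Polynomial (R ⧸ Q) :=
        eval₂Hom (Polynomial.C.comp (Ideal.Quotient.mk Q)) (fun i => if i = j then Polynomial.X else 0)
      have hπ0 : Ideal.span (F '' {j.natAdd r}ᶜ) ≤ RingHom.ker π := by
        rw [Ideal.span_le]
        rintro _ ⟨i, hi, rfl⟩
        revert hi
        refine Fin.addCases (fun i => ?_) (fun i => ?_) i <;> intro hi
        · simp [F, π, Ideal.Quotient.eq_zero_iff_mem.2 (hIQ (hfI i))]
        · have hij : i ≠ j := fun e => hi (by rw [e]; rfl)
          simp [F, π, hij]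
      have h2 : π t * Polynomial.X = 0 := by
        have := hπ0 htj
        rw [RingHom.mem_ker, map_mul] at this
        simpa [F, π] using this
      have h3 : π t = 0 := (mul_eq_zero.1 h2).resolve_right Polynomial.X_ne_zero
      refine ht ?_
      have h4 : (Polynomial.constantCoeff).comp π = (Ideal.Quotient.mk Q).comp (constantCoeff : MvPolynomial (Fin k) R →+* R) :=
        MvPolynomial.ringHom_ext (fun a => by simp [π]) fun i => by
          by_cases hij : i = j <;> simp [π, hij]
      show (constantCoeff : MvPolynomial (Fin k) R →+* R) t ∈ Q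
      rw [← Ideal.Quotient.eq_zero_iff_mem]
      exact (RingHom.congr_fun h4 t).symm.trans (by simp [h3])
  have hu1 : IsUnit (algebraMap (MvPolynomial (Fin k) R) TP (C ((constantCoeff : MvPolynomial (Fin k) R →+* R) h))) :=
    IsLocalization.map_units TP (⟨_, hnotP _ hh0⟩ : P.primeCompl)
  have hu2 : IsUnit (algebraMap (MvPolynomial (Fin k) R) TP (C s0)) := IsLocalization.map_units TP (⟨_, hnotP _ hs0⟩ : P.primeCompl)
  have huh : IsUnit (algebraMap (MvPolynomial (Fin k) R) TP h) := IsLocalization.map_units TP (⟨h, hh⟩ : P.primeCompl)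
  have hgTP : KReg fun i => algebraMap (MvPolynomial (Fin k) R) TP (g i) := kreg_of_isUnit P.primeCompl TP huh hg
  have hgsTP := map_eq_span_of_isUnit TP huh hgs
  have hne : Ideal.span (Set.range fun i => algebraMap (MvPolynomial (Fin k) R) TP (g i)) ≠ ⊤ := by
    rw [← hgsTP]
    refine ne_top_of_le_ne_top (IsLocalRing.maximalIdeal.isMaximal TP).ne_top ?_
    rw [← Localization.AtPrime.map_eq_maximalIdeal]
    exact Ideal.map_mono (Ideal.comap_mono hIQ)
  have hrs : r + k = s := le_antisymm
    (hirrF.le _ ((hspan TP hu1 hu2).symm.trans hgsTP))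
    (le_of_generators hne hgTP rfl _ ((hspan TP hu1 hu2).symm.trans hgsTP))
  subst hrs
  let c : (MvPolynomial (Fin k) R) := h * (C ((constantCoeff : MvPolynomial (Fin k) R →+* R) h) * C s0)
  let L := Localization.Away c
  let L' := Localization.Away ((constantCoeff : MvPolynomial (Fin k) R →+* R) c)
  have hcu : ∀ (a : (MvPolynomial (Fin k) R)), a ∣ c → IsUnit (algebraMap (MvPolynomial (Fin k) R) L a) := fun a ha =>
    isUnit_of_dvd_unit (map_dvd _ ha) (IsLocalization.Away.algebraMap_isUnit c)
  have hLh : IsUnit (algebraMap (MvPolynomial (Fin k) R) L h) := hcu _ (dvd_mul_right _ _)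
  have hF : KReg fun i => algebraMap (MvPolynomial (Fin k) R) L (F i) :=
    kreg_of_span_eq (kreg_of_isUnit (Submonoid.powers c) L hLh hg)
      ((hspan L (hcu _ ((dvd_mul_right _ _).mul_left _)) (hcu _ ((dvd_mul_left _ _).mul_left _))).symm.trans
        (map_eq_span_of_isUnit L hLh hgs))
  have hpow : (Submonoid.powers c).map (constantCoeff : MvPolynomial (Fin k) R →+* R) = Submonoid.powers ((constantCoeff : MvPolynomial (Fin k) R →+* R) c) := Submonoid.map_powers _ _
  have : IsLocalization ((Submonoid.powers c).map (constantCoeff : MvPolynomial (Fin k) R →+* R)) L' := by rw [hpow]; infer_instance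
  let ψ : L →+* L' := IsLocalization.Away.map L L' (constantCoeff : MvPolynomial (Fin k) R →+* R) c
  have hψ : ∀ x, ψ (algebraMap (MvPolynomial (Fin k) R) L x) = algebraMap R L' ((constantCoeff : MvPolynomial (Fin k) R →+* R) x) := fun x => IsLocalization.map_eq _ x
  have hψsurj : Function.Surjective ψ :=
    IsLocalization.map_surjective_of_surjective (M := Submonoid.powers c) (S := L) (Q := L') constantCoeff_surjective
  have hψker : RingHom.ker ψ = Ideal.span (Set.range fun i => algebraMap (MvPolynomial (Fin k) R) L (X i)) := by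
    refine (IsLocalization.ker_map L' (constantCoeff : MvPolynomial (Fin k) R →+* R) hpow).trans ?_
    rw [hker, Ideal.map_span, ← Set.range_comp]; rfl
  have hcQ : (constantCoeff : MvPolynomial (Fin k) R →+* R) c ∉ Q := by
    simp only [c, map_mul]
    intro hc
    rcases Ideal.IsPrime.mem_or_mem ‹_› hc with h1 | h1
    · exact hh0 h1
    rcases Ideal.IsPrime.mem_or_mem ‹_› h1 with h1 | h1
    · exact hh0 (by rwa [show (constantCoeff : MvPolynomial (Fin k) R →+* R) (C ((constantCoeff : MvPolynomial (Fin k) R →+* R) h)) = (constantCoeff : MvPolynomial (Fin k) R →+* R) h from constantCoeff_C _ _] at h1)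
    · exact hs0 (by rwa [show (constantCoeff : MvPolynomial (Fin k) R →+* R) (C s0) = s0 from constantCoeff_C _ _] at h1)
  have hu' : ∀ a : R, C a ∣ c → IsUnit (algebraMap R L' a) := fun a ha => by
    have h1 : a ∣ (constantCoeff : MvPolynomial (Fin k) R →+* R) c := by simpa using map_dvd (constantCoeff : MvPolynomial (Fin k) R →+* R) ha
    exact isUnit_of_dvd_unit (map_dvd _ h1) (IsLocalization.Away.algebraMap_isUnit ((constantCoeff : MvPolynomial (Fin k) R →+* R) c))
  refine ⟨(constantCoeff : MvPolynomial (Fin k) R →+* R) c, hcQ, r, f, hfI, ?_, hIf L' (hu' _ ((dvd_mul_right _ _).mul_left _)) (hu' _ ((dvd_mul_left _ _).mul_left _))⟩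
  have key := kreg_of_append (φ := ψ) hψsurj (l := fun i => algebraMap (MvPolynomial (Fin k) R) L (C (f i))) hψker
    (kreg_map (RingHom.flat_algebraMap_iff.2 (IsLocalization.flat L (Submonoid.powers c))) kreg_X)
    (by
      convert hF using 1
      funext i
      exact Fin.addCases (fun i => by simp [F]) (fun i => by simp [F]) i)
  simp only [hψ] at key
  simpa using key

/-- An ideal is Koszul regular if its extension plus the variables is. -/
theorem isKoszulRegularIdeal_of_comap_constantCoeff {I : Ideal R}
    (h : LCI.IsKoszulRegularIdeal (I.comap (constantCoeff : MvPolynomial (Fin k) R →+* R))) :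
    LCI.IsKoszulRegularIdeal I := by
  rw [isKoszulRegularIdeal_iff] at h ⊢
  exact fun Q hQ => KAt.of_mvPolynomial hQ (h ⟨Q.asIdeal.comap _, inferInstance⟩ (Ideal.comap_mono hQ))

end Groth.Agent.FlatMorKoszul
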