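import Groth.Agent.FlatMorKoszul.Basic
import Groth.Agent.CAlgH.KoszulAppend

/-!
# Koszul regular ideals and surjective ring maps
-/

universe u

set_option autoImplicit false
set_option backward.isDefEq.respectTransparency false

namespace Groth.Agent.FlatMorKoszul

open Groth.Agent.CAlgH.KoszulRegular Groth.Agent.CAlgH.KoszulAppend

variable {A B : Type u} [CommRing A] [CommRing B]

theorem Res.exAt_symm {φ : A →+* B} {C : CochainComplex (ModuleCat.{u} A) ℤ}
    {D : CochainComplex (ModuleCat.{u} B) ℤ} (r : Res φ C D)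
    {i j k l : ℤ} (hij : i + 1 = j) (hjk : j + 1 = k) (hkl : k + 1 = l) (h : ExAt C i j k) :
    ExAt D i j k := by
  intro z hz
  obtain ⟨y, rfl⟩ := r.e_surj j z
  rw [← r.e_d j k hjk] at hz
  obtain ⟨w, hw0, hw⟩ := r.acyclic j k l hjk hkl _ hz
    (CategoryTheory.ConcreteCategory.congr_hom (C.d_comp_d j k l) y)
  obtain ⟨v, hv⟩ := h (y - w) (by rw [map_sub, hw, sub_self])
  exact ⟨r.e i v, by rw [← r.e_d i j hij, hv, map_sub, hw0, sub_zero]⟩

/-- Modding out a Koszul regular subfamily. -/
theorem isKoszulRegularSeq_of_append {φ : A →+* B} (hφ : Function.Surjective φ) {l m : List A}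
    (hker : RingHom.ker φ = Ideal.ofList m) (hm : LCI.IsKoszulRegularSeq A m)
    (hl : LCI.IsKoszulRegularSeq A (l ++ m)) : LCI.IsKoszulRegularSeq B (l.map φ) := by
  have h : Nonempty (Res φ (_root_.Koszul.koszul A m) (_root_.Koszul.koszul B [])) := by
    rw [← List.ofFn_get m] at hm ⊢
    exact exists_res hφ _ (hker.trans (by rw [Set.range_list_get])) hm
  obtain ⟨r⟩ := res_append l h
  intro j hj
  exact (exAt_iff _ (sub_add_cancel j 1) rfl).2
    (Res.exAt_symm r (sub_add_cancel j 1) rfl rfl ((exAt_iff _ (sub_add_cancel j 1) rfl).1 (hl j hj)))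

theorem ofList_ofFn {n : ℕ} (f : Fin n → A) : Ideal.ofList (List.ofFn f) = Ideal.span (Set.range f) :=
  congrArg Ideal.span (Set.ext fun x => by simp)

/-- Family version of `isKoszulRegularSeq_append`. -/
theorem kreg_append {φ : A →+* B} (hφ : Function.Surjective φ) {n m : ℕ} {l : Fin n → A} {k : Fin m → A}
    (hker : RingHom.ker φ = Ideal.span (Set.range k)) (hk : KReg k) (hl : KReg fun i => φ (l i)) :
    KReg (Fin.append l k) := by
  rw [← isKoszulRegularSeq_iff] at hk hl ⊢
  rw [List.ofFn_fin_append]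
  refine isKoszulRegularSeq_append hφ (by rw [hker, ofList_ofFn]) hk ?_
  rw [List.map_ofFn]
  exact hl

/-- Family version of `isKoszulRegularSeq_of_append`. -/
theorem kreg_of_append {φ : A →+* B} (hφ : Function.Surjective φ) {n m : ℕ} {l : Fin n → A} {k : Fin m → A}
    (hker : RingHom.ker φ = Ideal.span (Set.range k)) (hk : KReg k) (hl : KReg (Fin.append l k)) :
    KReg fun i => φ (l i) := by
  rw [← isKoszulRegularSeq_iff] at hk hl ⊢
  rw [List.ofFn_fin_append] at hl
  have h := isKoszulRegularSeq_of_append hφ (by rw [hker, ofList_ofFn]) hk hl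
  rwa [List.map_ofFn] at h

theorem range_append {n m : ℕ} {α : Type*} (l : Fin n → α) (k : Fin m → α) :
    Set.range (Fin.append l k) = Set.range l ∪ Set.range k := by
  ext x
  constructor
  · rintro ⟨i, rfl⟩
    refine Fin.addCases (fun i => ?_) (fun i => ?_) i
    · exact Or.inl ⟨i, (Fin.append_left l k i).symm⟩
    · exact Or.inr ⟨i, (Fin.append_right l k i).symm⟩
  · rintro (⟨i, rfl⟩ | ⟨i, rfl⟩)
    · exact ⟨i.castAdd m, Fin.append_left l k i⟩
    · exact ⟨i.natAdd n, Fin.append_right l k i⟩

/-- The preimage of a Koszul regular ideal under a surjection with Koszul regular kernel. -/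
theorem KAt.comap {φ : A →+* B} (hφ : Function.Surjective φ) {J : Ideal B} {Q : Ideal B} [Q.IsPrime]
    (hK : KAt (RingHom.ker φ) (Q.comap φ)) (hJ : KAt J Q) : KAt (J.comap φ) (Q.comap φ) := by
  obtain ⟨h, hh, n, f, hfK, hf, hfs⟩ := hK
  obtain ⟨h', hh', m, g, hgJ, hg, hgs⟩ := hJ
  obtain ⟨a, rfl⟩ := hφ h'
  choose b hb using fun i => hφ (g i)
  let L := Localization.Away (h * a)
  let L' := Localization.Away (φ (h * a))
  let ψ : L →+* L' := IsLocalization.Away.map L L' φ (h * a)
  have hψ : ∀ x, ψ (algebraMap A L x) = algebraMap B L' (φ x) := fun x => IsLocalization.map_eq _ x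
  have hpow : (Submonoid.powers (h * a)).map φ = Submonoid.powers (φ (h * a)) := Submonoid.map_powers _ _
  have : IsLocalization ((Submonoid.powers (h * a)).map φ) L' := by rw [hpow]; infer_instance
  have hψsurj : Function.Surjective ψ :=
    IsLocalization.map_surjective_of_surjective (M := Submonoid.powers (h * a)) (S := L) (Q := L') hφ
  have hker : RingHom.ker ψ = (RingHom.ker φ).map (algebraMap A L) :=
    IsLocalization.ker_map L' φ (by rw [Submonoid.map_powers])
  have huh : IsUnit (algebraMap A L h) :=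
    isUnit_of_dvd_unit (map_dvd _ (dvd_mul_right h a)) (IsLocalization.Away.algebraMap_isUnit (h * a))
  have hua : IsUnit (algebraMap B L' (φ a)) :=
    isUnit_of_dvd_unit (map_dvd _ (map_dvd φ (dvd_mul_left a h)))
      (IsLocalization.Away.algebraMap_isUnit (φ (h * a)))
  have hker' : RingHom.ker ψ = Ideal.span (Set.range fun i => algebraMap A L (f i)) :=
    hker.trans (map_eq_span_of_isUnit L huh hfs)
  have hbm : ∀ i, b i ∈ J.comap φ := fun i => by rw [Ideal.mem_comap, hb]; exact hgJ i
  refine ⟨h * a, fun hc => (Ideal.IsPrime.mem_or_mem ‹_› (show φ h * φ a ∈ Q by rw [← map_mul]; exact hc)).elim hh hh',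
    m + n, Fin.append b f, ?_, ?_, le_antisymm ?_ ?_⟩
  · refine Fin.addCases (fun i => ?_) (fun i => ?_)
    · rw [Fin.append_left]; exact hbm i
    · rw [Fin.append_right]; exact Ideal.comap_mono bot_le (hfK i)
  · have key := kreg_append hψsurj hker' (kreg_of_isUnit (Submonoid.powers (h * a)) L huh hf)
      (l := fun i => algebraMap A L (b i)) (by
        simp only [hψ, hb]
        exact kreg_of_isUnit (Submonoid.powers (φ (h * a))) L' hua hg)
    convert key using 1
    funext i
    refine Fin.addCases (fun i => ?_) (fun i => ?_) i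
    · rw [Fin.append_left, Fin.append_left]
    · rw [Fin.append_right, Fin.append_right]
  · rw [show Set.range (fun i => algebraMap A L (Fin.append b f i)) =
      Set.range (fun i => algebraMap A L (b i)) ∪ Set.range fun i => algebraMap A L (f i) by
        rw [← range_append]; congr 1; funext i; exact Fin.addCases (fun i => by rw [Fin.append_left, Fin.append_left])
          (fun i => by rw [Fin.append_right, Fin.append_right]) i,
      Ideal.span_union, ← hker', Ideal.map_le_iff_le_comap]
    intro x hx
    have h1 : ψ (algebraMap A L x) ∈ (Ideal.span (Set.range fun i => algebraMap A L (b i))).map ψ := by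
      rw [hψ, Ideal.map_span, ← Set.range_comp, show (ψ ∘ fun i => algebraMap A L (b i)) =
        fun i => algebraMap B L' (g i) from funext fun i => by simp only [Function.comp, hψ, hb],
        ← map_eq_span_of_isUnit L' hua hgs]
      exact Ideal.mem_map_of_mem _ hx
    rw [Ideal.mem_map_iff_of_surjective _ hψsurj] at h1
    obtain ⟨y, hy, hyx⟩ := h1
    exact Submodule.mem_sup.2 ⟨y, hy, algebraMap A L x - y,
      RingHom.mem_ker.2 (by rw [map_sub, hyx, sub_self]), by abel⟩
  · rw [Ideal.span_le]
    rintro _ ⟨i, rfl⟩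
    refine Ideal.mem_map_of_mem _ ?_
    exact Fin.addCases (fun i => by rw [Fin.append_left]; exact hbm i)
      (fun i => by rw [Fin.append_right]; exact Ideal.comap_mono bot_le (hfK i)) i

theorem isKoszulRegularIdeal_comap {φ : A →+* B} (hφ : Function.Surjective φ)
    (hK : LCI.IsKoszulRegularIdeal (RingHom.ker φ)) {J : Ideal B} (hJ : LCI.IsKoszulRegularIdeal J) :
    LCI.IsKoszulRegularIdeal (J.comap φ) := by
  rw [isKoszulRegularIdeal_iff] at hK hJ ⊢
  intro P hP
  have hle : RingHom.ker φ ≤ P.asIdeal := le_trans (Ideal.comap_mono bot_le) hP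
  have hcm : (P.asIdeal.map φ).comap φ = P.asIdeal := by
    rw [Ideal.comap_map_of_surjective _ hφ]
    exact sup_eq_left.2 hle
  have := Ideal.map_isPrime_of_surjective hφ hle
  have hK' : KAt (RingHom.ker φ) ((P.asIdeal.map φ).comap φ) := hcm.symm ▸ hK P hle
  have := KAt.comap hφ hK' (hJ ⟨P.asIdeal.map φ, this⟩ (by
    rw [← Ideal.map_comap_of_surjective _ hφ J]; exact Ideal.map_mono hP))
  rwa [hcm] at this

end Groth.Agent.FlatMorKoszul
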