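import Groth.Agent.FlatMorKoszul.Presentation
import Groth.Agent.FlatCxLib.Algebra
import Mathlib.RingTheory.IsTensorProduct
import Mathlib.RingTheory.Localization.BaseChange
import Mathlib.RingTheory.Flat.Localization

/-!
# Koszul regular families with flat quotient and arbitrary base change
-/

universe u

set_option autoImplicit false
set_option backward.isDefEq.respectTransparency false

open TensorProduct

namespace Groth.Agent.FlatMorKoszul

open Groth.Agent.CAlgH.KoszulRegular Groth.Agent.Disc12.Koszul

section Complex

variable {R R' L L' : Type u} [CommRing R] [CommRing R'] [CommRing L] [CommRing L'] [Algebra R L]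
  [Algebra R R'] [Algebra R L'] [Algebra R' L'] [Algebra L L'] [IsScalarTower R R' L']
  [IsScalarTower R L L'] [Algebra.IsPushout R R' L L']

theorem e0_injective {n : ℕ} : Function.Injective (e0 (R := L) (n := n)) := fun a b h =>
  (ExteriorAlgebra.algebraMap_leftInverse (Fin n → L)).injective (congrArg Subtype.val h)

theorem flat_K [Module.Flat R L] (n p : ℕ) : Module.Flat R (K L n p) := by
  have : Module.Free L (K L n p) := Module.Free.of_basis ((Pi.basisFun L (Fin n)).exteriorPower p)
  exact Module.Flat.trans R L (K L n p)

/-- The cokernels of the Koszul differentials are flat. -/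
theorem flat_coker_d [Module.Flat R L] {n : ℕ} {f : Fin n → L} (hf : KReg f)
    [Module.Flat R (L ⧸ Ideal.span (Set.range f))] :
    ∀ p, Module.Flat R (K L n p ⧸ LinearMap.range ((d f p).restrictScalars R)) := by
  intro p
  induction p with
  | zero =>
    let e : L ≃ₗ[L] K L n 0 := LinearEquiv.ofBijective e0 ⟨e0_injective, e0_surjective⟩
    let q : (L ⧸ Ideal.span (Set.range f)) ≃ₗ[L] K L n 0 ⧸ LinearMap.range (d f 0) :=
      Submodule.Quotient.equiv _ _ e (range_d_zero f).symm
    have : Module.Flat R (K L n 0 ⧸ LinearMap.range (d f 0)) :=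
      Module.Flat.of_linearEquiv (q.restrictScalars R).symm
    exact Module.Flat.of_linearEquiv
      ((Submodule.quotEquivOfEq _ ((LinearMap.range (d f 0)).restrictScalars R)
        (LinearMap.range_restrictScalars (d f 0))).trans
        (Submodule.Quotient.restrictScalarsEquiv R (LinearMap.range (d f 0))))
  | succ p ih =>
    have := flat_K (R := R) (L := L) n p
    have hex : Function.Exact ((d f (p + 1)).restrictScalars R) ((d f p).restrictScalars R) := hf p
    have := FlatCxLib.flat_range ((d f p).restrictScalars R)
    exact Module.Flat.of_linearEquiv ((Submodule.quotEquivOfEq _ _ (LinearMap.exact_iff.1 hex).symm).trans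
      (LinearMap.quotKerEquivRange ((d f p).restrictScalars R)))

theorem exact_lTensor_of_flat_coker {A N₁ N₂ N₃ : Type u} [CommRing A] [AddCommGroup N₁] [AddCommGroup N₂]
    [AddCommGroup N₃] [Module A N₁] [Module A N₂] [Module A N₃] {k : N₁ →ₗ[A] N₂} {g : N₂ →ₗ[A] N₃}
    (hex : Function.Exact k g) [Module.Flat A (N₃ ⧸ LinearMap.range g)] (M : Type u) [AddCommGroup M] [Module A M] :
    Function.Exact (k.lTensor M) (g.lTensor M) := by
  have hinj : Function.Injective ((LinearMap.range g).subtype.lTensor M) :=
    LinearMap.lTensor_injective_of_exact_of_flat _ (Submodule.mkQ_surjective (LinearMap.range g))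
      _ (Submodule.subtype_injective _) (LinearMap.exact_subtype_mkQ (LinearMap.range g)) M
  have hex' : Function.Exact k g.rangeRestrict := by
    rw [LinearMap.exact_iff, LinearMap.ker_rangeRestrict]
    exact LinearMap.exact_iff.1 hex
  intro x
  refine Iff.trans ?_ (lTensor_exact M hex' g.surjective_rangeRestrict x)
  have hcomp : g.lTensor M = (LinearMap.range g).subtype.lTensor M ∘ₗ g.rangeRestrict.lTensor M := by
    rw [← LinearMap.lTensor_comp, LinearMap.subtype_comp_codRestrict]
  rw [hcomp, LinearMap.comp_apply]
  exact ⟨fun h => hinj (h.trans (map_zero _).symm), fun h => by rw [h, map_zero]⟩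

theorem exact_tensor [Module.Flat R L] {n : ℕ} {f : Fin n → L} (hf : KReg f)
    [Module.Flat R (L ⧸ Ideal.span (Set.range f))] (M : Type u) [AddCommGroup M] [Module R M] (p : ℕ) :
    Function.Exact (((d f (p + 1)).restrictScalars R).lTensor M) (((d f p).restrictScalars R).lTensor M) :=
  haveI := flat_coker_d (R := R) hf p
  exact_lTensor_of_flat_coker (k := (d f (p + 1)).restrictScalars R) (g := (d f p).restrictScalars R) (hf p) M

/-- Base change of a Koszul regular family with flat quotient. -/
theorem kreg_baseChange (R' : Type u) [CommRing R'] [Algebra R R'] [Algebra R' L'] [IsScalarTower R R' L']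
    [Algebra.IsPushout R R' L L'] [Module.Flat R L] {n : ℕ} {f : Fin n → L} (hf : KReg f)
    [Module.Flat R (L ⧸ Ideal.span (Set.range f))] : KReg fun i => algebraMap L L' (f i) := by
  intro p
  have h2 : Function.Exact ((d f (p + 1)).baseChange L') ((d f p).baseChange L') := by
    have comm : ∀ q, ((d f q).restrictScalars R).lTensor R' ∘ₗ
        ((Algebra.IsPushout.cancelBaseChange R R' L L' (K L n (q + 1))).restrictScalars R).toLinearMap =
        ((Algebra.IsPushout.cancelBaseChange R R' L L' (K L n q)).restrictScalars R).toLinearMap ∘ₗ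
          ((d f q).baseChange L').restrictScalars R := by
      intro q
      refine LinearMap.ext fun z => ?_
      obtain ⟨y, rfl⟩ := (Algebra.IsPushout.cancelBaseChange R R' L L' (K L n (q + 1))).symm.surjective z
      induction y using TensorProduct.induction_on with
      | zero => simp
      | tmul a m =>
        show ((d f q).restrictScalars R).lTensor R'
            (Algebra.IsPushout.cancelBaseChange R R' L L' (K L n (q + 1))
              ((Algebra.IsPushout.cancelBaseChange R R' L L' (K L n (q + 1))).symm (a ⊗ₜ m))) =
          Algebra.IsPushout.cancelBaseChange R R' L L' (K L n q)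
            ((d f q).baseChange L'
              ((Algebra.IsPushout.cancelBaseChange R R' L L' (K L n (q + 1))).symm (a ⊗ₜ m)))
        rw [LinearEquiv.apply_symm_apply, Algebra.IsPushout.cancelBaseChange_symm_tmul, LinearMap.baseChange_tmul,
          ← Algebra.IsPushout.cancelBaseChange_symm_tmul R R' L L' (K L n q) a (d f q m), LinearEquiv.apply_symm_apply]
        rfl
      | add x y hx hy => simp only [map_add, hx, hy]
    exact (Function.Exact.iff_of_ladder_linearEquiv (comm (p + 1)) (comm p)).1 (exact_tensor (R := R) hf R' p)
  exact Function.Exact.of_ladder_linearEquiv_of_exact (baseChange_comm f (p + 1)) (baseChange_comm f p) h2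

end Complex

section Kernel

variable {R R' : Type u} [CommRing R] [CommRing R'] [Algebra R R']
  {T S : Type u} [CommRing T] [CommRing S] [Algebra R T] [Algebra R S]
  {T' S' : Type u} [CommRing T'] [CommRing S'] [Algebra R T'] [Algebra R' T'] [Algebra T T']
  [IsScalarTower R R' T'] [IsScalarTower R T T']
  [Algebra R S'] [Algebra R' S'] [Algebra S S'] [IsScalarTower R R' S'] [IsScalarTower R S S']
  [Algebra.IsPushout R R' T T'] [Algebra.IsPushout R R' S S']

/-- The kernel of a base changed surjection. -/
theorem ker_baseChange (α : T →ₐ[R] S) (hα : Function.Surjective α) (α' : T' →ₐ[R'] S')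
    (h : ∀ t, α' (algebraMap T T' t) = algebraMap S S' (α t)) :
    Function.Surjective α' ∧ RingHom.ker α'.toRingHom = (RingHom.ker α.toRingHom).map (algebraMap T T') := by
  constructor
  · intro y
    obtain ⟨z, rfl⟩ := (Algebra.IsPushout.equiv R R' S S').surjective y
    induction z using TensorProduct.induction_on with
    | zero => exact ⟨0, by rw [map_zero, map_zero]⟩
    | tmul r s =>
      obtain ⟨q, rfl⟩ := hα s
      refine ⟨algebraMap R' T' r * algebraMap T T' q, ?_⟩
      rw [map_mul, α'.commutes, h, Algebra.IsPushout.equiv_tmul]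
    | add x y hx hy =>
      obtain ⟨u, hu⟩ := hx
      obtain ⟨v, hv⟩ := hy
      exact ⟨u + v, by rw [map_add, map_add, hu, hv]⟩
  refine le_antisymm (fun x hx => ?_) (Ideal.map_le_iff_le_comap.2 fun x hx => ?_)
  · let K := (RingHom.ker α.toRingHom).map (algebraMap T T')
    let f : S →ₐ[R] T' ⧸ K :=
      (Ideal.Quotient.liftₐ (RingHom.ker α.toRingHom)
        ((Ideal.Quotient.mkₐ R K).comp (IsScalarTower.toAlgHom R T T'))
        fun z hz => Ideal.Quotient.eq_zero_iff_mem.2 (Ideal.mem_map_of_mem _ hz)).comp
        (Ideal.quotientKerAlgEquivOfSurjective hα).symm.toAlgHom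
    have hf : ∀ q, f (α q) = Ideal.Quotient.mk K (algebraMap T T' q) := fun q => by
      have h1 : (Ideal.quotientKerAlgEquivOfSurjective hα).symm (α q) = Ideal.Quotient.mk _ q := by
        rw [AlgEquiv.symm_apply_eq]; rfl
      refine (congrArg (Ideal.Quotient.liftₐ (RingHom.ker α.toRingHom)
        ((Ideal.Quotient.mkₐ R K).comp (IsScalarTower.toAlgHom R T T')) fun z hz =>
          Ideal.Quotient.eq_zero_iff_mem.2 (Ideal.mem_map_of_mem _ hz)) h1).trans ?_
      rfl
    let g : R' →ₐ[R] T' ⧸ K := (Ideal.Quotient.mkₐ R K).comp (IsScalarTower.toAlgHom R R' T')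
    have : Algebra.IsPushout R S R' S' := .symm inferInstance
    let ψ : S' →ₐ[R] T' ⧸ K :=
      Algebra.pushoutDesc (R := R) (S := S) (R' := R') S' f g fun _ _ => mul_comm _ _
    have hψ : ∀ z, ψ (α' z) = Ideal.Quotient.mk K z := fun z => by
      obtain ⟨w, rfl⟩ := (Algebra.IsPushout.equiv R R' T T').surjective z
      induction w using TensorProduct.induction_on with
      | zero => simp
      | tmul r t =>
        rw [Algebra.IsPushout.equiv_tmul, map_mul, α'.commutes, h, map_mul, map_mul, Algebra.pushoutDesc_right,
          Algebra.pushoutDesc_left, hf]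
        rfl
      | add x y hx hy => simp only [map_add, hx, hy]
    rw [← Ideal.Quotient.eq_zero_iff_mem, ← hψ]
    rw [show α' x = 0 from hx, map_zero]
  · rw [Ideal.mem_comap, RingHom.mem_ker]
    show α' (algebraMap T T' x) = 0
    rw [h, show α x = 0 from hx, map_zero]

end Kernel

section KAt

variable {R R' T T' : Type u} [CommRing R] [CommRing R'] [Algebra R R'] [CommRing T] [Algebra R T]
  [CommRing T'] [Algebra R T'] [Algebra R' T'] [Algebra T T']
  [IsScalarTower R R' T'] [IsScalarTower R T T'] [Algebra.IsPushout R R' T T']

/-- Koszul regularity with flat quotient is stable under every base change. -/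
theorem KAt.baseChange (R' : Type u) [CommRing R'] [Algebra R R'] [Algebra R' T'] [IsScalarTower R R' T']
    [Algebra.IsPushout R R' T T'] [Module.Flat R T] {J : Ideal T} [Module.Flat R (T ⧸ J)] {Q : Ideal T'}
    (hK : KAt J (Q.comap (algebraMap T T'))) : KAt (J.map (algebraMap T T')) Q := by
  obtain ⟨h, hh, n, f, hfJ, hf, hspan⟩ := hK
  let L := Localization.Away h
  let L' := Localization.Away (algebraMap T T' h)
  let ψ : L →+* L' := IsLocalization.Away.map L L' (algebraMap T T') h
  have hψ : ∀ t, ψ (algebraMap T L t) = algebraMap T' L' (algebraMap T T' t) := fun t =>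
    IsLocalization.map_eq _ t
  let _ : Algebra L L' := ψ.toAlgebra
  have : IsScalarTower T L L' := .of_algebraMap_eq fun t => by
    rw [IsScalarTower.algebraMap_apply T T' L']
    exact (hψ t).symm
  have : IsScalarTower R L L' := .of_algebraMap_eq fun r => by
    rw [IsScalarTower.algebraMap_apply R T L, ← IsScalarTower.algebraMap_apply T L L',
      ← IsScalarTower.algebraMap_apply R T L']
  have : IsScalarTower R R' L' := .of_algebraMap_eq fun r => by
    rw [IsScalarTower.algebraMap_apply R T' L', IsScalarTower.algebraMap_apply R' T' L',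
      ← IsScalarTower.algebraMap_apply R R' T']
  have : IsLocalization (Algebra.algebraMapSubmonoid T' (Submonoid.powers h)) L' := by
    have e : Algebra.algebraMapSubmonoid T' (Submonoid.powers h) = Submonoid.powers (algebraMap T T' h) :=
      Submonoid.map_powers _ _
    rw [e]
    exact (inferInstance : IsLocalization.Away (algebraMap T T' h) L')
  have hloc : Algebra.IsPushout T T' L L' := Algebra.isPushout_of_isLocalization (Submonoid.powers h) L T' L'
  have : IsScalarTower R T' L' := inferInstance
  have : IsScalarTower R' T' L' := inferInstance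
  have hTL : Algebra.IsPushout T L T' L' := hloc.symm
  have : Algebra.IsPushout R T R' T' := .symm inferInstance
  have : Algebra.IsPushout R L R' L' := (Algebra.IsPushout.comp_iff R T R' T' (T := L) (T' := L')).2 hTL
  have : Algebra.IsPushout R R' L L' := .symm inferInstance
  have : Module.Flat T L := IsLocalization.flat L (Submonoid.powers h)
  have : Module.Flat R L := Module.Flat.trans R T L
  have : IsLocalization (Algebra.algebraMapSubmonoid (T ⧸ J) (Submonoid.powers h)) (L ⧸ J.map (algebraMap T L)) :=
    inferInstance
  have : Module.Flat (T ⧸ J) (L ⧸ J.map (algebraMap T L)) :=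
    IsLocalization.flat _ (Algebra.algebraMapSubmonoid (T ⧸ J) (Submonoid.powers h))
  have : IsScalarTower R (T ⧸ J) (L ⧸ J.map (algebraMap T L)) := .of_algebraMap_eq fun r => by
    rw [IsScalarTower.algebraMap_apply R T (T ⧸ J), IsScalarTower.algebraMap_apply R T (L ⧸ J.map (algebraMap T L))]
    rfl
  have : Module.Flat R (L ⧸ J.map (algebraMap T L)) := Module.Flat.trans R (T ⧸ J) _
  have : Module.Flat R (L ⧸ Ideal.span (Set.range fun i => algebraMap T L (f i))) :=
    Module.Flat.of_linearEquiv (Ideal.quotientEquivAlgOfEq R hspan.symm).toLinearEquiv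
  refine ⟨algebraMap T T' h, hh, n, fun i => algebraMap T T' (f i), fun i => Ideal.mem_map_of_mem _ (hfJ i), ?_, ?_⟩
  · have key := kreg_baseChange (R := R) R' (L' := L') hf
    simp only [← IsScalarTower.algebraMap_apply] at key
    convert key using 2 with i
    exact (IsScalarTower.algebraMap_apply T T' L' (f i)).symm
  · have hmap : (J.map (algebraMap T T')).map (algebraMap T' L') = (J.map (algebraMap T L)).map ψ := by
      rw [Ideal.map_map, Ideal.map_map, ← IsScalarTower.algebraMap_eq T T' L',
        show ψ = algebraMap L L' from rfl, ← IsScalarTower.algebraMap_eq T L L']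
    rw [hmap, hspan, Ideal.map_span, ← Set.range_comp]
    exact congrArg Ideal.span (congrArg Set.range (funext fun i => hψ (f i)))

end KAt

end Groth.Agent.FlatMorKoszul
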