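import Groth.Agent.FlatMorKoszul.Fibre

/-!
# Koszul regularity descends along arbitrary base change under flatness
-/

universe u

set_option autoImplicit false
set_option backward.isDefEq.respectTransparency false

open TensorProduct

namespace Groth.Agent.FlatMorKoszul

attribute [local instance] Algebra.TensorProduct.rightAlgebra

set_option maxHeartbeats 800000 in
theorem KAt.of_baseChange {R R' T T' : Type u} [CommRing R] [CommRing R'] [CommRing T] [CommRing T'] [Algebra R R']
    [Algebra R T] [Algebra R T'] [Algebra R' T'] [Algebra T T'] [IsScalarTower R R' T'] [IsScalarTower R T T']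
    [Algebra.IsPushout R R' T T'] [Algebra.FinitePresentation R T] [Module.Flat R T] [Module.Flat R' T']
    {J : Ideal T} (hJ : J.FG) [Module.Flat R (T ⧸ J)] [Module.Flat R' (T' ⧸ J.map (algebraMap T T'))]
    (Q' : Ideal T') [Q'.IsPrime] (hJQ : J ≤ Q'.comap (algebraMap T T'))
    (hK : KAt (J.map (algebraMap T T')) Q') : KAt J (Q'.comap (algebraMap T T')) := by
  let p' : Ideal R' := Q'.comap (algebraMap R' T')
  let p : Ideal R := p'.comap (algebraMap R R')
  let P : Ideal T := Q'.comap (algebraMap T T')
  have hp : P.comap (algebraMap R T) = p := by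
    simp only [P, p, p', Ideal.comap_comap, ← IsScalarTower.algebraMap_eq]
  -- a prime of the fibre over `Q'`
  obtain ⟨Q, hQprime, hQ⟩ : ∃ Q : Ideal (p'.Fiber T'), Q.IsPrime ∧
      Q'  = Q.comap (Algebra.TensorProduct.includeRight : T' →ₐ[R'] p'.Fiber T').toRingHom := by
    let x : PrimeSpectrum.comap (algebraMap R' T') ⁻¹' {(⟨p', inferInstance⟩ : PrimeSpectrum R')} :=
      ⟨⟨Q', inferInstance⟩, rfl⟩
    refine ⟨(PrimeSpectrum.preimageEquivFiber R' T' ⟨p', inferInstance⟩ x).asIdeal, inferInstance, ?_⟩
    have := congrArg (fun y => y.1.asIdeal) ((PrimeSpectrum.preimageEquivFiber R' T' ⟨p', inferInstance⟩).symm_apply_apply x)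
    exact this.symm
  -- the fibre algebras
  have : Algebra.IsPushout R' p'.ResidueField T' (p'.Fiber T') := TensorProduct.isPushout
  have : Algebra.IsPushout R p.ResidueField T (p.Fiber T) := TensorProduct.isPushout
  have h1 : KAt ((J.map (algebraMap T T')).map (algebraMap T' (p'.Fiber T'))) Q := by
    refine KAt.baseChange (R := R') p'.ResidueField (J := J.map (algebraMap T T')) ?_
    exact (congrArg (KAt (J.map (algebraMap T T'))) hQ).mp hK
  let φ : p.ResidueField →ₐ[R] p'.ResidueField := Ideal.ResidueField.mapₐ p p' (Algebra.ofId R R') rfl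
  let _ : Algebra p.ResidueField p'.ResidueField := φ.toRingHom.toAlgebra
  have : IsScalarTower R p.ResidueField p'.ResidueField := .of_algebraMap_eq fun r => (φ.commutes r).symm
  let _ : Algebra T (p'.Fiber T') := ((algebraMap T' (p'.Fiber T')).comp (algebraMap T T')).toAlgebra
  have : IsScalarTower T T' (p'.Fiber T') := .of_algebraMap_eq fun _ => rfl
  have : IsScalarTower R R' (p'.Fiber T') := inferInstance
  have : IsScalarTower R T' (p'.Fiber T') := .of_algebraMap_eq fun r => by
    rw [IsScalarTower.algebraMap_apply R R' (p'.Fiber T'), IsScalarTower.algebraMap_apply R R' T',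
      ← IsScalarTower.algebraMap_apply R' T' (p'.Fiber T')]
  have : IsScalarTower R T (p'.Fiber T') := .of_algebraMap_eq fun r => by
    rw [IsScalarTower.algebraMap_apply T T' (p'.Fiber T'), ← IsScalarTower.algebraMap_apply R T T',
      ← IsScalarTower.algebraMap_apply R T' (p'.Fiber T')]
  let Φ : p.Fiber T →ₐ[R] p'.Fiber T' := Algebra.TensorProduct.lift
    ((IsScalarTower.toAlgHom R p'.ResidueField (p'.Fiber T')).comp φ)
    (IsScalarTower.toAlgHom R T (p'.Fiber T')) fun _ _ => .all _ _
  let _ : Algebra (p.Fiber T) (p'.Fiber T') := Φ.toRingHom.toAlgebra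
  have : IsScalarTower p.ResidueField p'.ResidueField (p'.Fiber T') := inferInstance
  have : IsScalarTower R p.ResidueField (p'.Fiber T') := .of_algebraMap_eq fun r => by
    rw [IsScalarTower.algebraMap_apply p.ResidueField p'.ResidueField (p'.Fiber T'),
      ← IsScalarTower.algebraMap_apply R p.ResidueField p'.ResidueField,
      ← IsScalarTower.algebraMap_apply R p'.ResidueField (p'.Fiber T')]
  have hΦl : ∀ c : p.ResidueField, Φ (c ⊗ₜ[R] (1 : T)) = algebraMap p.ResidueField (p'.Fiber T') c := fun c => by
    show Algebra.TensorProduct.lift _ _ _ (c ⊗ₜ[R] (1 : T)) = _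
    rw [Algebra.TensorProduct.lift_tmul, map_one, mul_one]
    rfl
  have hΦr : ∀ t : T, Φ ((1 : p.ResidueField) ⊗ₜ[R] t) = algebraMap T (p'.Fiber T') t := fun t => by
    show Algebra.TensorProduct.lift _ _ _ ((1 : p.ResidueField) ⊗ₜ[R] t) = _
    rw [Algebra.TensorProduct.lift_tmul, map_one, one_mul]
    rfl
  have : IsScalarTower p.ResidueField (p.Fiber T) (p'.Fiber T') := .of_algebraMap_eq fun c => (hΦl c).symm
  have : IsScalarTower T (p.Fiber T) (p'.Fiber T') := .of_algebraMap_eq fun t => (hΦr t).symm
  have : IsScalarTower R (p.Fiber T) (p'.Fiber T') := .of_algebraMap_eq fun r => (Φ.commutes r).symm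
  have h2 : Algebra.IsPushout R' p'.ResidueField T' (p'.Fiber T') := ‹_›
  have : Algebra.IsPushout R p'.ResidueField T (p'.Fiber T') :=
    (Algebra.IsPushout.comp_iff R R' T T' (T := p'.ResidueField) (T' := p'.Fiber T')).2 h2
  have h3 : Algebra.IsPushout p.ResidueField p'.ResidueField (p.Fiber T) (p'.Fiber T') :=
    (Algebra.IsPushout.comp_iff R p.ResidueField T (p.Fiber T) (T := p'.ResidueField) (T' := p'.Fiber T')).1 ‹_›
  have : Module.Free p.ResidueField p'.ResidueField := Module.Free.of_divisionRing _ _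
  have : Module.Flat p.ResidueField p'.ResidueField := Module.Flat.of_free
  have : Module.Flat (p.Fiber T) (p'.Fiber T') :=
    Module.Flat.isBaseChange (R := p.ResidueField) (S := p.Fiber T) (M := p'.ResidueField) (p'.Fiber T') h3.symm.out
  have : IsNoetherianRing (p.Fiber T) := Algebra.FiniteType.isNoetherianRing p.ResidueField _
  have hcomp : (algebraMap (p.Fiber T) (p'.Fiber T')).comp (algebraMap T (p.Fiber T)) =
      (algebraMap T' (p'.Fiber T')).comp (algebraMap T T') := RingHom.ext fun t => (hΦr t)
  have hPQ : P = (Q.comap (algebraMap (p.Fiber T) (p'.Fiber T'))).comap (algebraMap T (p.Fiber T)) := by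
    rw [Ideal.comap_comap, hcomp, ← Ideal.comap_comap]
    exact congrArg (Ideal.comap (algebraMap T T')) hQ
  have h4 : KAt ((J.map (algebraMap T (p.Fiber T))).map (algebraMap (p.Fiber T) (p'.Fiber T'))) Q := by
    rw [Ideal.map_map, hcomp, ← Ideal.map_map]
    exact h1
  have h5 := KAt.descend (Ideal.map_le_iff_le_comap.2 (hPQ ▸ hJQ)) h4
  exact KAt.of_fiber hJ p (Q.comap (algebraMap (p.Fiber T) (p'.Fiber T'))) P hPQ hp hJQ h5

end Groth.Agent.FlatMorKoszul
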